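import Groth.Agent.DiagAction.Local
import Groth.Prelude.Def_TwC

/-!
An action of a group of multiplicative type, trivial modulo a locally nilpotent ideal, is trivial.
-/

universe u

open CategoryTheory Limits MonoidalCategory CartesianMonoidalCategory MonObj GrpObj AlgebraicGeometry
open CoactBr Groth.Agent.DiagGrp

set_option backward.isDefEq.respectTransparency false

noncomputable section

namespace Groth.Agent.DiagAction

theorem bc_congr_grp {A C : Scheme.{u}} {h h' : A ⟶ C} (e : h = h') (X : Over C) [GrpObj X] :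
    Nonempty (Grp.mk (Red.bc h X) ≅ Grp.mk (Red.bc h' X)) := by
  subst e; exact ⟨Iso.refl _⟩

theorem isMonHom_natTrans_app_comp {C D E : Type*} [Category C] [Category D] [Category E]
    [CartesianMonoidalCategory C] [CartesianMonoidalCategory D] [CartesianMonoidalCategory E]
    {F : C ⥤ D} {G : D ⥤ E} {K : C ⥤ E} [F.Monoidal] [G.Monoidal] [K.Monoidal] (α : K ⟶ F ⋙ G) (X : C) [MonObj X] :
    letI := K.monObjObj (X := X)
    letI := F.monObjObj (X := X)
    letI := G.monObjObj (X := F.obj X)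
    IsMonHom (M := K.obj X) (N := G.obj (F.obj X)) (α.app X) := by
  haveI : NatTrans.IsMonoidal α := inferInstance
  letI := K.monObjObj (X := X)
  letI := F.monObjObj (X := X)
  letI := G.monObjObj (X := F.obj X)
  refine ⟨?_, ?_⟩
  · rw [Functor.obj.η_def, Functor.obj.η_def, Category.assoc, α.naturality, NatTrans.IsMonoidal.unit_assoc]
    simp [Functor.LaxMonoidal.comp_ε, Functor.obj.η_def]
  · rw [Functor.obj.μ_def, Functor.obj.μ_def, Category.assoc, α.naturality, NatTrans.IsMonoidal.tensor_assoc]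
    simp [Functor.LaxMonoidal.comp_μ, Functor.obj.μ_def]

theorem bc_comp_grp {A B C : Scheme.{u}} (j : A ⟶ B) (h : B ⟶ C) (X : Over C) [GrpObj X] :
    Nonempty (Grp.mk (Red.bc (j ≫ h) X) ≅ Grp.mk (Red.bc j (Red.bc h X))) := by
  haveI : IsMonHom (M := Red.bc (j ≫ h) X) (N := Red.bc j (Red.bc h X)) ((Over.pullbackComp j h).app X).hom :=
    isMonHom_natTrans_app_comp (Over.pullbackComp j h).hom X
  exact ⟨Grp.mkIso' (G := Red.bc (j ≫ h) X) (H := Red.bc j (Red.bc h X)) ((Over.pullbackComp j h).app X)⟩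

theorem exists_chart_affine {U S : Scheme.{u}} {R : Type u} [CommRing R] (j : Spec (CommRingCat.of R) ⟶ U)
    (h : U ⟶ S) (v : Spec (CommRingCat.of R) ⟶ S) (hv : j ≫ h = v) (G : Over S) [GrpObj G]
    {M : Type} [AddCommGroup M] (E : Nonempty (Grp.mk (Red.bc h G) ≅ Grp.mk (Red.DS U M))) :
    Nonempty (Grp.mk (Red.bc v G) ≅ Grp.mk (sp R (MonoidAlgebra R (Multiplicative M)))) := by
  subst hv
  obtain ⟨E⟩ := E
  obtain ⟨e1⟩ := bc_comp_grp j h G
  obtain ⟨e2⟩ := bc_comp_grp j (Limits.IsTerminal.from specULiftZIsTerminal U) (Red.diag (ULift.{u} ℤ) M)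
  obtain ⟨e3⟩ := bc_congr_grp (h := j ≫ Limits.IsTerminal.from specULiftZIsTerminal U)
    (h' := Limits.IsTerminal.from specULiftZIsTerminal (Spec (CommRingCat.of R)))
    (specULiftZIsTerminal.hom_ext _ _) (Red.diag (ULift.{u} ℤ) M)
  obtain ⟨e4⟩ := (isSplitTorusWith_iff (M := M) (Red.DS (Spec (CommRingCat.of R)) M)).mp ⟨Iso.refl _⟩
  exact ⟨e1 ≪≫ (Over.pullback j).mapGrp.mapIso E ≪≫ e2.symm ≪≫ e3 ≪≫ e4⟩

variable {S S₀ : Scheme.{u}} (i₀ : S₀ ⟶ S) [IsClosedImmersion i₀]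

theorem exists_factor_mod {R : Type u} [CommRing R] (U : S.affineOpens) (φ : Γ(S, U) ⟶ CommRingCat.of R)
    (v : Spec (CommRingCat.of R) ⟶ S) (hv : Spec.map φ ≫ U.2.fromSpec = v)
    (B : Type u) [CommRing B] [Algebra R B]
    (hB : ∀ r ∈ (i₀.ker.ideal U).map φ.hom, algebraMap R B r = 0) :
    ∃ l : Spec (CommRingCat.of B) ⟶ S₀, l ≫ i₀ = Spec.map (CommRingCat.ofHom (algebraMap R B)) ≫ v := by
  let I := i₀.ker
  let k := IsClosedImmersion.lift i₀ I.subschemeι I.ker_subschemeι.ge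
  have hk : k ≫ i₀ = I.subschemeι := IsClosedImmersion.lift_fac _ _ _
  let χ : CommRingCat.of (Γ(S, U) ⧸ I.ideal U) ⟶ CommRingCat.of B :=
    CommRingCat.ofHom (Ideal.Quotient.lift (I.ideal U) ((algebraMap R B).comp φ.hom) fun a ha =>
      hB _ (Ideal.mem_map_of_mem _ ha))
  refine ⟨Spec.map χ ≫ I.subschemeCover.f U ≫ k, ?_⟩
  rw [Category.assoc, Category.assoc, hk, I.subschemeCover_map_subschemeι, I.glueDataObjι_ι, ← hv,
    ← Spec.map_comp_assoc, ← Spec.map_comp_assoc]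
  congr 2

/-- An action of a group of multiplicative type which is trivial modulo a locally nilpotent ideal is trivial. -/
theorem action_trivial
    (hnil : ∀ x : S, ∃ U : S.affineOpens, x ∈ (U : S.Opens) ∧ IsNilpotent (i₀.ker.ideal U))
    (G X : Over S) [GrpObj G]
    (hG : TwC.Locally S TwC.Topology.fpqc (fun S' f => ∃ (M : Type) (_ : AddCommGroup M), Nonempty (Grp.mk (Red.bc f G) ≅ Grp.mk (Red.DS S' M))))
    (a : AlgGrp.Action G X)
    (h0 : ∀ (Y : Over S) (p : Y ⟶ Over.mk i₀) (g : Y ⟶ G) (x : Y ⟶ X), lift g x ≫ a.act = x)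
    (Y : Over S) (g : Y ⟶ G) (x : Y ⟶ X) : lift g x ≫ a.act = x := by
  obtain ⟨S', f, hf, hfs, -, hloc⟩ := hG
  apply Over.OverMorphism.ext
  let q := pullback.fst Y.hom f
  haveI : Epi q := Flat.epi_of_flat_of_surjective q
  rw [← cancel_epi q]
  suffices ∀ p : ↥(pullback Y.hom f), ∃ O : (pullback Y.hom f).Opens, p ∈ O ∧
      O.ι ≫ q ≫ (lift g x ≫ a.act).left = O.ι ≫ q ≫ x.left by
    choose O hO hOe using this
    exact ((pullback Y.hom f).openCoverOfIsOpenCover O (eq_top_iff.mpr fun z _ =>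
      TopologicalSpace.Opens.mem_iSup.mpr ⟨z, hO z⟩)).hom_ext _ _ hOe
  intro p
  let s' := pullback.snd Y.hom f p
  obtain ⟨U, hsU, M, _, hE⟩ := hloc s'
  obtain ⟨U₀, hsU₀, n, hn⟩ := hnil (f s')
  obtain ⟨_, ⟨V, hV, rfl⟩, hsV, hVU⟩ := S'.isBasis_affineOpens.exists_subset_of_mem_open
    (show s' ∈ (U : Set S') ∩ f ⁻¹' (U₀ : S.Opens) from ⟨hsU, hsU₀⟩) (U.isOpen.inter (U₀.1.isOpen.preimage f.continuous))
  replace hV : IsAffineOpen V := hV
  let R : Type u := Γ(S', V)
  let v : Spec (CommRingCat.of R) ⟶ S := hV.fromSpec ≫ f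
  let φ : Γ(S, U₀) ⟶ CommRingCat.of R := f.appLE U₀ V fun z hz => (hVU hz).2
  have hφ : Spec.map φ ≫ U₀.2.fromSpec = v := IsAffineOpen.SpecMap_appLE_fromSpec f U₀.2 hV _
  let J : Ideal R := (i₀.ker.ideal U₀).map φ.hom
  have hJ : IsNilpotent J := ⟨n, by rw [← Ideal.map_pow, hn, Ideal.zero_eq_bot, Ideal.map_bot]; rfl⟩
  let j : Spec (CommRingCat.of R) ⟶ U := IsOpenImmersion.lift U.ι hV.fromSpec (by
    intro z hz; exact (Scheme.Opens.range_ι U).ge (hVU (hV.range_fromSpec.le hz)).1)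
  have hj : j ≫ U.ι ≫ f = v := by rw [← Category.assoc, IsOpenImmersion.lift_fac]
  have he := exists_chart_affine j (U.ι ≫ f) v hj G hE
  let L : LocalAction (Red.bc v G) (Red.bc v X) :=
    { act := actV a v, comp := comp_actV a v, one := actV_one a v, mul := actV_mul a v }
  have hmod : ∀ (B : Type u) [CommRing B] [Algebra R B], (∀ r ∈ J, algebraMap R B r = 0) →
      ∀ (gb : sp R B ⟶ Red.bc v G) (xb : sp R B ⟶ Red.bc v X), L.act gb xb = xb := by
    intro B _ _ hB gb xb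
    obtain ⟨l, hl⟩ := exists_factor_mod i₀ U₀ φ v hφ B hB
    show upP v (actT a (downP v gb) (downP v xb)) = xb
    rw [actT, h0 _ (Over.homMk l hl) _ _, upP_downP]
  refine ⟨(pullback.snd Y.hom f) ⁻¹ᵁ V, hsV, ?_⟩
  let O := (pullback.snd Y.hom f) ⁻¹ᵁ V
  let l : (O : Scheme.{u}) ⟶ Spec (CommRingCat.of R) := IsOpenImmersion.lift hV.fromSpec (O.ι ≫ pullback.snd Y.hom f) (by
    rintro _ ⟨z, rfl⟩
    exact hV.range_fromSpec.ge z.2)
  let Z : Over (Spec (CommRingCat.of R)) := Over.mk l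
  let k : (Over.map v).obj Z ⟶ Y := Over.homMk (O.ι ≫ q) (by
    show (O.ι ≫ q) ≫ Y.hom = l ≫ hV.fromSpec ≫ f
    rw [IsOpenImmersion.lift_fac_assoc, Category.assoc, Category.assoc, pullback.condition])
  have key := act_eq_local J L hJ hmod he (upP v (k ≫ g)) (upP v (k ≫ x))
  have key' := congrArg (downP v) key
  simp only [L, actV, downP_upP] at key'
  rw [← comp_actT] at key'
  have h3 := congrArg CommaMorphism.left key'
  simp only [Over.comp_left] at h3
  exact (Category.assoc _ _ _).symm.trans (h3.trans (Category.assoc _ _ _))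

end Groth.Agent.DiagAction
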