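import Mathlib

/-!
An action of a diagonalisable group on an affine scheme which is trivial modulo a nilpotent ideal is trivial
(point-functor form).
-/

universe u

set_option backward.isDefEq.respectTransparency false

namespace Groth.Agent.DiagAction

variable {R C : Type u} [CommRing R] [CommRing C] [Algebra R C] {M : Type} [CommMonoid M]

/-- A natural action of the characters of `M` on the algebra points of `C`. -/
structure PtAction (R C : Type u) [CommRing R] [CommRing C] [Algebra R C] (M : Type) [CommMonoid M] where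
  /-- the action -/
  act : ∀ (B : Type u) [CommRing B] [Algebra R B], (MonoidAlgebra R M →ₐ[R] B) → (C →ₐ[R] B) → (C →ₐ[R] B)
  nat : ∀ (B B' : Type u) [CommRing B] [Algebra R B] [CommRing B'] [Algebra R B'] (h : B →ₐ[R] B')
    (g : MonoidAlgebra R M →ₐ[R] B) (x : C →ₐ[R] B), h.comp (act B g x) = act B' (h.comp g) (h.comp x)
  one : ∀ (B : Type u) [CommRing B] [Algebra R B] (g : MonoidAlgebra R M →ₐ[R] B) (x : C →ₐ[R] B),
    (∀ m, g (MonoidAlgebra.single m 1) = 1) → act B g x = x
  mul : ∀ (B : Type u) [CommRing B] [Algebra R B] (g g' k : MonoidAlgebra R M →ₐ[R] B) (x : C →ₐ[R] B),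
    (∀ m, k (MonoidAlgebra.single m 1) = g (MonoidAlgebra.single m 1) * g' (MonoidAlgebra.single m 1)) →
      act B k x = act B g (act B g' x)

theorem eq_bot_of_le_smul {N : Type u} [AddCommGroup N] [Module R N] (J : Ideal R) (hJ : IsNilpotent J)
    (P : Submodule R N) (h : P ≤ J • P) : P = ⊥ := by
  obtain ⟨n, hn⟩ := hJ
  have key : ∀ k : ℕ, P ≤ J ^ k • P := fun k => by
    induction k with
    | zero => simp
    | succ k ih => exact ih.trans ((Submodule.smul_mono le_rfl h).trans_eq (by rw [← Submodule.mul_smul, ← pow_succ]))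
  have := key n
  rw [hn] at this
  simpa using this

variable (A : PtAction R C M)

/-- the inclusion `C → C[M]` -/
noncomputable def inclC : C →ₐ[R] MonoidAlgebra C M := IsScalarTower.toAlgHom R C _

/-- the universal character -/
noncomputable def univ : MonoidAlgebra R M →ₐ[R] MonoidAlgebra C M :=
  MonoidAlgebra.lift R _ M (MonoidAlgebra.of C M)

/-- the coaction -/
noncomputable def coact : C →ₐ[R] MonoidAlgebra C M := A.act _ univ inclC

theorem univ_single (m : M) : (univ (R := R) (C := C)) (MonoidAlgebra.single m 1) = MonoidAlgebra.single m 1 := by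
  simp [univ]

theorem algHom_ext_single {B : Type u} [CommRing B] [Algebra R B] {φ ψ : MonoidAlgebra R M →ₐ[R] B}
    (h : ∀ m, φ (MonoidAlgebra.single m 1) = ψ (MonoidAlgebra.single m 1)) : φ = ψ :=
  (MonoidAlgebra.lift R B M).symm.injective (MonoidHom.ext fun m => h m)

theorem coact_eq_inclC (J : Ideal R) (hJ : IsNilpotent J)
    (h0 : ∀ (B : Type u) [CommRing B] [Algebra R B] (g : MonoidAlgebra R M →ₐ[R] B) (x : C →ₐ[R] B),
      (∀ r ∈ J, algebraMap R B r = 0) → A.act B g x = x) :
    coact A = inclC := by
  classical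
  let π : M → C →ₗ[R] C := fun m =>
    { toFun := fun c => (coact A c).coeff m
      map_add' := fun a b => by simp
      map_smul' := fun r a => by simp [map_smul] }
  -- idempotence
  have hidem : ∀ m c, π m (π m c) = π m c := by
    intro m c
    let i : C →ₐ[R] (MonoidAlgebra C (M × M)) := IsScalarTower.toAlgHom R C (MonoidAlgebra C (M × M))
    let d : MonoidAlgebra C M →ₐ[C] (MonoidAlgebra C (M × M)) := MonoidAlgebra.mapDomainAlgHom C C (MonoidHom.id M |>.prod (MonoidHom.id M))
    let d₂ : MonoidAlgebra C M →ₐ[C] (MonoidAlgebra C (M × M)) := MonoidAlgebra.mapDomainAlgHom C C (MonoidHom.inr M M)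
    let g₁ : MonoidAlgebra R M →ₐ[R] (MonoidAlgebra C (M × M)) := MonoidAlgebra.lift R _ M ((MonoidAlgebra.of C (M × M)).comp (MonoidHom.inl M M))
    let g₂ : MonoidAlgebra R M →ₐ[R] (MonoidAlgebra C (M × M)) := (d₂.restrictScalars R).comp univ
    let y : C →ₐ[R] (MonoidAlgebra C (M × M)) := (d₂.restrictScalars R).comp (coact A)
    have hy : A.act (MonoidAlgebra C (M × M)) g₂ i = y := by
      simp only [y, coact, A.nat]
      congr 1
      exact (AlgHom.ext fun c => d₂.commutes c).symm
    have hk : A.act (MonoidAlgebra C (M × M)) ((d.restrictScalars R).comp univ) i = (d.restrictScalars R).comp (coact A) := by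
      simp only [coact, A.nat]
      congr 1
      exact (AlgHom.ext fun c => d.commutes c).symm
    have hm := A.mul (MonoidAlgebra C (M × M)) g₁ g₂ ((d.restrictScalars R).comp univ) i (fun m => by
      simp [g₁, g₂, univ_single, d, d₂, MonoidAlgebra.mapDomainAlgHom_apply, MonoidAlgebra.mapDomain_single, MonoidAlgebra.of_apply, MonoidAlgebra.single_mul_single, MonoidAlgebra.coeff_add])
    let hA : MonoidAlgebra C M →ₐ[R] (MonoidAlgebra C (M × M)) := MonoidAlgebra.liftNCAlgHom y
      ((MonoidAlgebra.of C (M × M)).comp (MonoidHom.inl M M)) fun _ _ => Commute.all _ _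
    have hA1 : ∀ n a, hA (MonoidAlgebra.single n a) = y a * MonoidAlgebra.single ((n, 1) : M × M) 1 := fun n a => by
      simp [hA, MonoidAlgebra.mapDomainAlgHom_apply, MonoidAlgebra.mapDomain_single, MonoidAlgebra.of_apply, MonoidAlgebra.single_mul_single, MonoidAlgebra.coeff_add]
    have hh : A.act (MonoidAlgebra C (M × M)) g₁ y = hA.comp (coact A) := by
      simp only [coact, A.nat]
      congr 1
      · refine algHom_ext_single (fun m => ?_)
        rw [AlgHom.comp_apply, univ_single, hA1, map_one, one_mul]
        simp [g₁, MonoidAlgebra.mapDomainAlgHom_apply, MonoidAlgebra.mapDomain_single, MonoidAlgebra.of_apply, MonoidAlgebra.single_mul_single, MonoidAlgebra.coeff_add]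
      · refine AlgHom.ext fun c => ?_
        show y c = hA (algebraMap C (MonoidAlgebra C M) c)
        rw [show algebraMap C (MonoidAlgebra C M) c = MonoidAlgebra.single 1 c from rfl, hA1]
        rw [show ((1 : M), (1 : M)) = (1 : M × M) from rfl, ← MonoidAlgebra.one_def, mul_one]
    rw [hk, hy, hh] at hm
    have e := congrArg (fun f : C →ₐ[R] (MonoidAlgebra C (M × M)) => (f c).coeff (m, m)) hm
    have e1 : ∀ z : MonoidAlgebra C M, (d z).coeff (m, m) = z.coeff m := by
      intro z
      induction z using MonoidAlgebra.induction_linear with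
      | zero => simp
      | add a b ha hb => simp [map_add, ha, hb, MonoidAlgebra.mapDomainAlgHom_apply, MonoidAlgebra.mapDomain_single, MonoidAlgebra.of_apply, MonoidAlgebra.single_mul_single, MonoidAlgebra.coeff_add]
      | single n a => simp [d, Finsupp.single_apply, Prod.ext_iff, MonoidAlgebra.mapDomainAlgHom_apply, MonoidAlgebra.mapDomain_single, MonoidAlgebra.of_apply, MonoidAlgebra.single_mul_single, MonoidAlgebra.coeff_add]
    have e2 : ∀ z : MonoidAlgebra C M, (hA z).coeff (m, m) = π m (z.coeff m) := by
      intro z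
      induction z using MonoidAlgebra.induction_linear with
      | zero => simp
      | add a b ha hb => simp [map_add, ha, hb, MonoidAlgebra.mapDomainAlgHom_apply, MonoidAlgebra.mapDomain_single, MonoidAlgebra.of_apply, MonoidAlgebra.single_mul_single, MonoidAlgebra.coeff_add]
      | single n a =>
        have : ∀ z : MonoidAlgebra C M, ((d₂ z) * MonoidAlgebra.single ((n, 1) : M × M) (1 : C)).coeff (m, m) =
            if n = m then z.coeff m else 0 := by
          intro z
          induction z using MonoidAlgebra.induction_linear with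
          | zero => simp
          | add a b ha hb => rw [map_add, add_mul]; simp only [MonoidAlgebra.coeff_add, Finsupp.add_apply, ha, hb]; split_ifs <;> simp
          | single q b =>
            by_cases hn : n = m
            · subst hn; simp [d₂, Finsupp.single_apply, MonoidAlgebra.mapDomainAlgHom_apply, MonoidAlgebra.mapDomain_single, MonoidAlgebra.of_apply, MonoidAlgebra.single_mul_single, MonoidAlgebra.coeff_add]
            · simp [d₂, Finsupp.single_apply, hn, MonoidAlgebra.mapDomainAlgHom_apply, MonoidAlgebra.mapDomain_single, MonoidAlgebra.of_apply, MonoidAlgebra.single_mul_single, MonoidAlgebra.coeff_add]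
        rw [hA1]
        refine (this (coact A a)).trans ?_
        by_cases hn : n = m
        · subst hn; simp [π]
        · simp [hn, π]
    simp only [AlgHom.comp_apply] at e
    rw [show (d.restrictScalars R) (coact A c) = d (coact A c) from rfl, e1, e2] at e
    exact e.symm
  -- congruence
  have hmod : ∀ m, m ≠ 1 → ∀ c, π m c ∈ J.map (algebraMap R C) := by
    intro m hm c
    let I := J.map (algebraMap R (MonoidAlgebra C M))
    let q := Ideal.Quotient.mkₐ R I
    have h1 : q.comp (coact A) = q.comp inclC := by
      simp only [coact, A.nat]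
      exact h0 _ _ _ fun r hr => by
        rw [← q.commutes r]; exact Ideal.Quotient.eq_zero_iff_mem.mpr (Ideal.mem_map_of_mem _ hr)
    have h2 : coact A c - (inclC (R := R) (C := C) (M := M)) c ∈ I := Ideal.Quotient.eq.mp congr($h1 c)
    have h3 : ∀ z ∈ I, ∀ n, z.coeff n ∈ J.map (algebraMap R C) := by
      intro z hz n
      let q' : MonoidAlgebra C M →ₐ[R] MonoidAlgebra (C ⧸ J.map (algebraMap R C)) M :=
        MonoidAlgebra.mapAlgHom M (Ideal.Quotient.mkₐ R (J.map (algebraMap R C)))
      have hle : I ≤ RingHom.ker q' := Ideal.map_le_iff_le_comap.mpr fun r hr => by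
        rw [Ideal.mem_comap, RingHom.mem_ker, AlgHom.commutes,
          IsScalarTower.algebraMap_apply R (C ⧸ J.map (algebraMap R C)),
          IsScalarTower.algebraMap_apply R C (C ⧸ J.map (algebraMap R C)), Ideal.Quotient.algebraMap_eq,
          Ideal.Quotient.eq_zero_iff_mem.mpr (Ideal.mem_map_of_mem _ hr), map_zero]
      have := congrArg (fun w => w.coeff n) (RingHom.mem_ker.mp (hle hz))
      rw [← Ideal.Quotient.eq_zero_iff_mem]
      simpa [q'] using this
    have h4 := h3 _ h2 m
    simpa [π, inclC, Finsupp.single_apply, hm, Ne.symm hm] using h4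
  have hzero : ∀ m, m ≠ 1 → π m = 0 := by
    intro m hm
    rw [← LinearMap.range_eq_bot]
    refine eq_bot_of_le_smul J hJ _ ?_
    rintro _ ⟨c, rfl⟩
    rw [← hidem m c]
    have hc : π m c ∈ J • (⊤ : Submodule R C) := by
      rw [Ideal.smul_top_eq_map]; exact hmod m hm c
    have := Submodule.mem_map_of_mem (f := π m) hc
    rwa [Submodule.map_smul'', Submodule.map_top] at this
  refine AlgHom.ext fun c => ?_
  have hdiag : ∀ n, n ≠ 1 → (coact A c).coeff n = 0 := fun n hn => congr($(hzero n hn) c)
  have h1 : coact A c = MonoidAlgebra.single (1 : M) ((coact A c).coeff 1) := by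
    refine MonoidAlgebra.ext (Finsupp.ext fun n => ?_)
    by_cases hn : n = 1
    · subst hn; simp
    · simp [hdiag n hn, Finsupp.single_apply, Ne.symm hn]
  let ε : MonoidAlgebra C M →ₐ[R] C := (MonoidAlgebra.lift C C M (1 : M →* C)).restrictScalars R
  have h2 : ε.comp (coact A) = AlgHom.id R C := by
    simp only [coact, A.nat]
    rw [A.one]
    · exact AlgHom.ext fun c => (MonoidAlgebra.lift C C M (1 : M →* C)).commutes c
    · intro m; simp [ε, univ_single]
  have h3 : (coact A c).coeff 1 = c := by
    have := congr($h2 c)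
    rw [AlgHom.comp_apply, h1] at this
    simpa [ε] using this
  rw [h1, h3]
  rfl

theorem act_eq (J : Ideal R) (hJ : IsNilpotent J)
    (h0 : ∀ (B : Type u) [CommRing B] [Algebra R B] (g : MonoidAlgebra R M →ₐ[R] B) (x : C →ₐ[R] B),
      (∀ r ∈ J, algebraMap R B r = 0) → A.act B g x = x)
    (B : Type u) [CommRing B] [Algebra R B] (g : MonoidAlgebra R M →ₐ[R] B) (x : C →ₐ[R] B) :
    A.act B g x = x := by
  letI : Algebra C B := x.toRingHom.toAlgebra
  haveI : IsScalarTower R C B := .of_algebraMap_eq fun r => (x.commutes r).symm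
  let h : MonoidAlgebra C M →ₐ[R] B :=
    (MonoidAlgebra.lift C B M ((g : MonoidAlgebra R M →* B).comp (MonoidAlgebra.of R M))).restrictScalars R
  have hx : h.comp inclC = x := AlgHom.ext fun c =>
    (MonoidAlgebra.lift C B M ((g : MonoidAlgebra R M →* B).comp (MonoidAlgebra.of R M))).commutes c
  have hg : h.comp univ = g := by
    refine algHom_ext_single fun m => ?_
    simp [h, univ_single]
  have := congrArg h.comp (coact_eq_inclC A J hJ h0)
  rw [coact, A.nat, hg, hx] at this
  exact this

end Groth.Agent.DiagAction
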