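import Mathlib

/-!
Group-like elements of `A[N]` lift uniquely modulo a nilpotent ideal.
-/

universe u

namespace Groth.Agent.DiagAction

variable {A A' : Type u} [CommRing A] [CommRing A'] {N : Type} [CommMonoid N]

variable (A N) in
/-- `e a ↦ e (a, a)` -/
noncomputable def dg : MonoidAlgebra A N →ₐ[A] MonoidAlgebra A (N × N) :=
  MonoidAlgebra.mapDomainAlgHom A A ((MonoidHom.id N).prod (MonoidHom.id N))

variable (A N) in
/-- `e a ↦ e (a, 1)` -/
noncomputable def il : MonoidAlgebra A N →ₐ[A] MonoidAlgebra A (N × N) :=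
  MonoidAlgebra.mapDomainAlgHom A A (MonoidHom.inl N N)

variable (A N) in
/-- `e a ↦ e (1, a)` -/
noncomputable def ir : MonoidAlgebra A N →ₐ[A] MonoidAlgebra A (N × N) :=
  MonoidAlgebra.mapDomainAlgHom A A (MonoidHom.inr N N)

variable (A N) in
/-- `e a ↦ 1` -/
noncomputable def cu : MonoidAlgebra A N →ₐ[A] A := MonoidAlgebra.lift A A N 1

/-- group-like elements -/
def IsGL (y : MonoidAlgebra A N) : Prop := dg A N y = il A N y * ir A N y ∧ cu A N y = 1

theorem dg_coeff [DecidableEq N] (y : MonoidAlgebra A N) (a b : N) :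
    (dg A N y).coeff (a, b) = if a = b then y.coeff a else 0 := by
  induction y using MonoidAlgebra.induction_linear with
  | zero => simp
  | add y z hy hz => simp only [map_add, MonoidAlgebra.coeff_add, Finsupp.add_apply, hy, hz]; split_ifs <;> simp
  | single c r =>
    simp only [dg, MonoidAlgebra.mapDomainAlgHom_apply, MonoidAlgebra.mapDomain_single, MonoidAlgebra.coeff_single,
      MonoidHom.prod_apply, MonoidHom.id_apply]
    by_cases h : a = b <;> by_cases h' : c = a <;> simp [Finsupp.single_apply, h, h']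
    all_goals aesop

theorem il_mul_ir_coeff (y z : MonoidAlgebra A N) (a b : N) :
    (il A N y * ir A N z).coeff (a, b) = y.coeff a * z.coeff b := by
  classical
  induction y using MonoidAlgebra.induction_linear with
  | zero => simp
  | add y y' hy hy' => simp only [map_add, _root_.add_mul, MonoidAlgebra.coeff_add, Finsupp.add_apply, hy, hy']
  | single c r =>
    induction z using MonoidAlgebra.induction_linear with
    | zero => simp
    | add z z' hz hz' => simp only [map_add, _root_.mul_add, MonoidAlgebra.coeff_add, Finsupp.add_apply, hz, hz']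
    | single d s =>
      simp only [il, ir, MonoidAlgebra.mapDomainAlgHom_apply, MonoidAlgebra.mapDomain_single,
        MonoidAlgebra.single_mul_single, MonoidAlgebra.coeff_single, MonoidHom.inl_apply, MonoidHom.inr_apply,
        Prod.mk_mul_mk, _root_.mul_one, _root_.one_mul]
      by_cases h : c = a <;> by_cases h' : d = b <;> simp [Finsupp.single_apply, h, h']

theorem cu_eq_sum (y : MonoidAlgebra A N) {s : Finset N} (hs : y.coeff.support ⊆ s) :
    cu A N y = ∑ a ∈ s, y.coeff a := by
  rw [cu, MonoidAlgebra.lift_apply, Finsupp.sum_of_support_subset _ hs]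
  · simp
  · simp

theorem isGL_iff [DecidableEq N] {y : MonoidAlgebra A N} {s : Finset N} (hs : y.coeff.support ⊆ s) :
    IsGL y ↔ (∀ a b, y.coeff a * y.coeff b = if a = b then y.coeff a else 0) ∧ ∑ a ∈ s, y.coeff a = 1 := by
  constructor
  · rintro ⟨h1, h2⟩
    refine ⟨fun a b => ?_, (cu_eq_sum y hs).symm.trans h2⟩
    rw [← il_mul_ir_coeff, ← h1, dg_coeff]
  · rintro ⟨h1, h2⟩
    refine ⟨MonoidAlgebra.ext (Finsupp.ext fun p => ?_), (cu_eq_sum y hs).trans h2⟩
    obtain ⟨a, b⟩ := p
    rw [dg_coeff, il_mul_ir_coeff, h1]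

theorem IsGL.mul {y z : MonoidAlgebra A N} (hy : IsGL y) (hz : IsGL z) : IsGL (y * z) := by
  refine ⟨?_, by rw [map_mul, hy.2, hz.2, _root_.mul_one]⟩
  rw [map_mul, hy.1, hz.1, map_mul, map_mul]
  ring

theorem isGL_one : IsGL (1 : MonoidAlgebra A N) := ⟨by simp, by simp⟩

theorem IsGL.eq_of_sub_nilpotent {y z : MonoidAlgebra A N} (hy : IsGL y) (hz : IsGL z)
    (h : ∀ a, IsNilpotent (y.coeff a - z.coeff a)) : y = z := by
  classical
  refine MonoidAlgebra.ext (Finsupp.ext fun a => ?_)
  have hy' := ((isGL_iff subset_rfl).mp hy).1 a a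
  have hz' := ((isGL_iff subset_rfl).mp hz).1 a a
  rw [if_pos rfl] at hy' hz'
  exact eq_of_isNilpotent_sub_of_isIdempotentElem_of_commute hy' hz' (h a) (Commute.all _ _)

variable (f : A →+* A') (hf : Function.Surjective f) (hker : ∀ x ∈ RingHom.ker f, IsNilpotent x)

include hker in
theorem IsGL.eq_of_map_eq {y z : MonoidAlgebra A N} (hy : IsGL y) (hz : IsGL z)
    (h : ∀ a, f (y.coeff a) = f (z.coeff a)) : y = z :=
  hy.eq_of_sub_nilpotent hz fun a => hker _ (by rw [RingHom.mem_ker, map_sub, h, sub_self])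

include hf hker in
theorem exists_isGL_lift {y : MonoidAlgebra A' N} (hy : IsGL y) :
    ∃ z : MonoidAlgebra A N, IsGL z ∧ ∀ a, f (z.coeff a) = y.coeff a := by
  classical
  obtain ⟨h1, h2⟩ := (isGL_iff subset_rfl).mp hy
  let s := y.coeff.support
  have he : CompleteOrthogonalIdempotents (fun a : s => y.coeff a) := by
    refine ⟨OrthogonalIdempotents.iff_mul_eq.mpr fun a b => ?_, ?_⟩
    · rw [h1]; exact if_congr Subtype.ext_iff.symm rfl rfl
    · exact (Finset.sum_coe_sort s fun a => y.coeff a).trans h2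
  obtain ⟨c, hc, hfc⟩ := CompleteOrthogonalIdempotents.lift_of_isNilpotent_ker f hker he
    fun a => hf _
  let z : MonoidAlgebra A N := ∑ a : s, MonoidAlgebra.single (a : N) (c a)
  have hz : ∀ a, z.coeff a = if h : a ∈ s then c ⟨a, h⟩ else 0 := by
    intro a
    simp only [z, MonoidAlgebra.coeff_sum, Finsupp.finsetSum_apply, MonoidAlgebra.coeff_single, Finsupp.single_apply]
    split_ifs with h
    · rw [Finset.sum_eq_single ⟨a, h⟩]
      · simp
      · intro b _ hb; rw [if_neg]; exact fun e => hb (Subtype.ext e)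
      · simp
    · exact Finset.sum_eq_zero fun b _ => if_neg fun (e : (b : N) = a) => h (e ▸ b.2)
  have hsupp : z.coeff.support ⊆ s := fun a ha => by
    by_contra h
    exact Finsupp.mem_support_iff.mp ha (by rw [hz, dif_neg h])
  refine ⟨z, (isGL_iff hsupp).mpr ⟨fun a b => ?_, ?_⟩, fun a => ?_⟩
  · rw [hz, hz]
    by_cases ha : a ∈ s <;> by_cases hb : b ∈ s
    · rw [dif_pos ha, dif_pos hb, hc.1.mul_eq]
      exact if_congr Subtype.ext_iff rfl rfl
    · rw [dif_pos ha, dif_neg hb, mul_zero, if_neg]; rintro rfl; exact hb ha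
    · rw [dif_neg ha, zero_mul, ite_self]
    · rw [dif_neg ha, zero_mul, ite_self]
  · rw [← Finset.sum_coe_sort s fun a => z.coeff a, ← hc.complete]
    exact Finset.sum_congr rfl fun a _ => by rw [hz, dif_pos a.2]
  · rw [hz]
    split_ifs with h
    · exact congr_fun hfc ⟨a, h⟩
    · rw [map_zero]; exact (Finsupp.notMem_support_iff.mp h).symm

end Groth.Agent.DiagAction
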