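import Groth.Agent.DiagAction.Global
import Groth.Agent.DiagAction.GroupLike

/-!
Homomorphisms from groups of multiplicative type agreeing modulo a nilpotent ideal, one of them central.
-/

universe u

open CategoryTheory Limits MonoidalCategory CartesianMonoidalCategory MonObj GrpObj AlgebraicGeometry
open CoactBr Groth.Agent.DiagGrp

set_option backward.isDefEq.respectTransparency false

noncomputable section

namespace Groth.Agent.DiagAction

variable {S : Scheme.{u}} {H G : Over S} [GrpObj H] [GrpObj G]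

/-- left translation through a homomorphism -/
def transAction (w : H ⟶ G) [IsMonHom w] : AlgGrp.Action H G where
  act := (fst H G ≫ w) * snd H G
  one_act := by
    simp only [MonObj.comp_mul, whiskerRight_fst_assoc, whiskerRight_snd, IsMonHom.one_hom]
    rw [show fst (𝟙_ (Over S)) G ≫ η[G] = 1 from by rw [Hom.one_def, toUnit_unique (fst _ _)]]
    simp [leftUnitor_hom]
  mul_act := by
    simp only [MonObj.comp_mul, whiskerRight_fst_assoc, whiskerRight_snd, whiskerLeft_fst_assoc,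
      whiskerLeft_snd, associator_hom_fst_assoc, associator_hom_snd_fst_assoc, associator_hom_snd_snd]
    rw [show fst (H ⊗ H) G ≫ μ[H] ≫ w = (fst (H ⊗ H) G ≫ fst H H ≫ w) * (fst (H ⊗ H) G ≫ snd H H ≫ w) by
      rw [IsMonHom.mul_hom, ← MonObj.comp_mul]
      congr 1]
    group

variable {S₀ : Scheme.{u}} (i₀ : S₀ ⟶ S) [IsClosedImmersion i₀]
  (hnil : ∀ x : S, ∃ U : S.affineOpens, x ∈ (U : S.Opens) ∧ IsNilpotent (i₀.ker.ideal U))
  (hH : TwC.Locally S TwC.Topology.fpqc (fun S' f => ∃ (M : Type) (_ : AddCommGroup M), Nonempty (Grp.mk (Red.bc f H) ≅ Grp.mk (Red.DS S' M))))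

include hnil hH in
/-- A homomorphism from a group of multiplicative type which is trivial modulo a nilpotent ideal is trivial. -/
theorem hom_trivial (w : H ⟶ G) [IsMonHom w]
    (h0 : ∀ (Y : Over S) (_ : Y ⟶ Over.mk i₀) (h : Y ⟶ H), h ≫ w = 1) (Y : Over S) (h : Y ⟶ H) : h ≫ w = 1 := by
  have key := action_trivial i₀ hnil H G hH (transAction w) (fun Y p g x => by
    simp only [transAction, MonObj.comp_mul, lift_fst_assoc, lift_snd]
    rw [h0 Y p g, _root_.one_mul]) Y h 1
  simp only [transAction, MonObj.comp_mul, lift_fst_assoc, lift_snd, _root_.mul_one] at key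
  exact key

/-- `v * u⁻¹` is a homomorphism for central `u`. -/
theorem isMonHom_mul_inv (u v : H ⟶ G) [IsMonHom u] [IsMonHom v]
    (hc : ∀ (X : Over S) (g : X ⟶ G) (h : X ⟶ H), g * (h ≫ u) = (h ≫ u) * g) : IsMonHom (v * u⁻¹) := by
  refine ⟨?_, ?_⟩
  · simp only [MonObj.comp_mul, GrpObj.comp_inv, IsMonHom.one_hom]
    rw [mul_inv_cancel, Hom.one_def, toUnit_unique (toUnit _) (𝟙 _), Category.id_comp]
  · have hcomm : ∀ (X : Over S) (g : X ⟶ G) (h : X ⟶ H), g * (h ≫ u)⁻¹ = (h ≫ u)⁻¹ * g :=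
      fun X g h => (Commute.inv_right (hc X g h)).eq
    have e : ∀ (X : Over S) (a b : X ⟶ H), (a * b) ≫ (v * u⁻¹) = (a ≫ (v * u⁻¹)) * (b ≫ (v * u⁻¹)) := by
      intro X a b
      simp only [MonObj.comp_mul, GrpObj.comp_inv, mul_comp']
      rw [_root_.mul_inv_rev, _root_.mul_assoc (a ≫ v), ← _root_.mul_assoc (b ≫ v), hcomm X ((b ≫ v) * (b ≫ u)⁻¹) a,
        _root_.mul_assoc]
    have := e (H ⊗ H) (fst H H) (snd H H)
    rw [Hom.mul_def, lift_fst_snd, Category.id_comp] at this
    rw [this, Hom.mul_def, lift_fst_comp_snd_comp]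

include hnil hH in
/-- Two homomorphisms from a group of multiplicative type, one central, which agree modulo a nilpotent ideal, are equal. -/
theorem hom_eq_of_central (u v : H ⟶ G) [IsMonHom u] [IsMonHom v]
    (hc : ∀ (X : Over S) (g : X ⟶ G) (h : X ⟶ H), g * (h ≫ u) = (h ≫ u) * g)
    (h0 : ∀ (Y : Over S) (_ : Y ⟶ Over.mk i₀) (h : Y ⟶ H), h ≫ u = h ≫ v) (Y : Over S) (h : Y ⟶ H) :
    h ≫ u = h ≫ v := by
  haveI := isMonHom_mul_inv u v hc
  have key := hom_trivial i₀ hnil hH (v * u⁻¹) (fun Y p h => by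
    simp only [MonObj.comp_mul, GrpObj.comp_inv]
    rw [h0 Y p h, mul_inv_cancel]) Y h
  simp only [MonObj.comp_mul, GrpObj.comp_inv] at key
  exact (mul_inv_eq_one.mp key).symm

/-- A homomorphism out of a diagonalisable group over an affine base, trivial modulo a nilpotent ideal, is trivial. -/
theorem hom_trivial_affine {R : Type u} [CommRing R] (J : Ideal R) (hJ : IsNilpotent J) {M : Type} [CommGroup M]
    {Hv Gv : Over (Spec (CommRingCat.of R))} [GrpObj Hv] [GrpObj Gv]
    (he : Nonempty (Grp.mk Hv ≅ Grp.mk (sp R (MonoidAlgebra R M)))) (w : Hv ⟶ Gv) [IsMonHom w]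
    (h0 : ∀ (B : Type u) [CommRing B] [Algebra R B], (∀ r ∈ J, algebraMap R B r = 0) →
      ∀ g : sp R B ⟶ Hv, g ≫ w = 1) : w = 1 := by
  let a := transAction w
  let L : LocalAction Hv Gv :=
    { act := actT a, comp := comp_actT a, one := actT_one a, mul := actT_mul a }
  have := act_eq_local J L hJ (fun B _ _ hB g x => by
    simp only [L, a, actT, transAction, MonObj.comp_mul, lift_fst_assoc, lift_snd]
    rw [h0 B hB g, _root_.one_mul]) he (𝟙 Hv) (1 : Hv ⟶ Gv)
  simp only [L, a, actT, transAction, MonObj.comp_mul, lift_fst_assoc, lift_snd, _root_.mul_one, Category.id_comp] at this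
  exact this

/-- morphisms equal on all affine points are equal -/
theorem hom_ext_affine {R : Type u} [CommRing R] {Z W : Over (Spec (CommRingCat.of R))} (a b : Z ⟶ W)
    (h : ∀ (B : Type u) [CommRing B] [Algebra R B] (k : sp R B ⟶ Z), k ≫ a = k ≫ b) : a = b := by
  apply Over.OverMorphism.ext
  refine Z.left.affineCover.hom_ext _ _ fun i => ?_
  let U := Z.left.affineCover.X i
  let e : U ≅ Spec Γ(U, ⊤) := U.isoSpec
  let ψ : CommRingCat.of R ⟶ Γ(U, ⊤) := Spec.preimage (e.inv ≫ Z.left.affineCover.f i ≫ Z.hom)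
  letI := ψ.hom.toAlgebra
  let k : sp R Γ(U, ⊤) ⟶ Z := Over.homMk (e.inv ≫ Z.left.affineCover.f i) (by
    rw [Category.assoc]; exact (Spec.map_preimage _).symm)
  have := congrArg CommaMorphism.left (h _ k)
  simp only [Over.comp_left, k, Over.homMk_left, Category.assoc, cancel_epi] at this
  exact this

section Local

variable {R : Type u} [CommRing R] {M M' : Type} [CommGroup M] [CommGroup M']

/-- the endomorphism of points given by a monoid map into the group-like elements is multiplicative -/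
theorem isMonHom_pt_lift (F : M →* MonoidAlgebra R M') (hF : ∀ m, IsGL (F m)) :
    IsMonHom (pt (MonoidAlgebra.lift R (MonoidAlgebra R M') M F)) := by
  refine isMonHom_of_points _ fun C _ _ x y => ?_
  obtain ⟨φ, rfl⟩ := pt_surjective x
  obtain ⟨ψ, rfl⟩ := pt_surjective y
  rw [← pt_conv, ← pt_comp, ← pt_comp, ← pt_comp, ← pt_conv]
  congr 1
  refine algHom_ext_single fun m => ?_
  let L : MonoidAlgebra R (M' × M') →ₐ[R] C := MonoidAlgebra.lift R C (M' × M')
    (((φ : MonoidAlgebra R M' →* C).comp (MonoidAlgebra.of R M')).coprod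
      ((ψ : MonoidAlgebra R M' →* C).comp (MonoidAlgebra.of R M')))
  have h1 : L.comp (dg R M') = conv φ ψ := algHom_ext_single fun a => by
    simp [L, dg, conv_single, MonoidAlgebra.mapDomainAlgHom_apply, MonoidAlgebra.mapDomain_single]
  have h2 : L.comp (il R M') = φ := algHom_ext_single fun a => by
    simp [L, il, MonoidAlgebra.mapDomainAlgHom_apply, MonoidAlgebra.mapDomain_single, ← MonoidAlgebra.one_def]
  have h3 : L.comp (ir R M') = ψ := algHom_ext_single fun a => by
    simp [L, ir, MonoidAlgebra.mapDomainAlgHom_apply, MonoidAlgebra.mapDomain_single, ← MonoidAlgebra.one_def]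
  rw [AlgHom.comp_apply, conv_single, AlgHom.comp_apply, AlgHom.comp_apply, MonoidAlgebra.lift_single, one_smul]
  rw [← h1, AlgHom.comp_apply, (hF m).1, map_mul, ← AlgHom.comp_apply, ← AlgHom.comp_apply, h2, h3]

variable {Hv Hv' Gv : Over (Spec (CommRingCat.of R))} [GrpObj Hv] [GrpObj Hv'] [GrpObj Gv]

/-- Locally the inclusion of `H'` factors through the central `H`. -/
theorem exists_factor_local (J : Ideal R) (hJ : IsNilpotent J)
    (eH : Nonempty (Grp.mk Hv ≅ Grp.mk (sp R (MonoidAlgebra R M))))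
    (eH' : Nonempty (Grp.mk Hv' ≅ Grp.mk (sp R (MonoidAlgebra R M'))))
    (i : Hv ⟶ Gv) [IsMonHom i] [Mono i] (i' : Hv' ⟶ Gv) [IsMonHom i']
    (hc : ∀ (X : Over (Spec (CommRingCat.of R))) (g : X ⟶ Gv) (h : X ⟶ Hv), g * (h ≫ i) = (h ≫ i) * g)
    (h0 : ∀ (X : Over (Spec (CommRingCat.of R))) (_ : X ⟶ Over.mk (Spec.map (CommRingCat.ofHom (Ideal.Quotient.mk J))))
      (h' : X ⟶ Hv'), ∃ x : X ⟶ Hv, x ≫ i = h' ≫ i') :
    ∃ φ : Hv' ⟶ Hv, φ ≫ i = i' := by
  obtain ⟨E⟩ := eH
  obtain ⟨E'⟩ := eH'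
  let e : sp R (MonoidAlgebra R M) ⟶ Hv := E.inv.hom.hom
  haveI : IsMonHom e := E.inv.hom.isMonHom_hom
  haveI : IsIso e := ((Grp.forget _).mapIso E).isIso_inv
  let e' : sp R (MonoidAlgebra R M') ⟶ Hv' := E'.inv.hom.hom
  haveI : IsMonHom e' := E'.inv.hom.isMonHom_hom
  haveI : IsIso e' := ((Grp.forget _).mapIso E').isIso_inv
  let i₀ : Spec (CommRingCat.of (R ⧸ J)) ⟶ Spec (CommRingCat.of R) := Spec.map (CommRingCat.ofHom (Ideal.Quotient.mk J))
  have hover : ∀ (B : Type u) [CommRing B] [Algebra R B], (∀ r ∈ J, algebraMap R B r = 0) →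
      Nonempty (sp R B ⟶ Over.mk i₀) := fun B _ _ hB =>
    ⟨Over.homMk (Spec.map (CommRingCat.ofHom (Ideal.Quotient.lift J (algebraMap R B) hB))) (by
      show _ ≫ Spec.map _ = Spec.map _
      rw [← Spec.map_comp]; rfl)⟩
  have hall : ∀ (B : Type u) [CommRing B] [Algebra R B], (∀ r ∈ J, algebraMap R B r = 0) →
      ∀ g : MonoidAlgebra R M' →ₐ[R] B, ∃ cH : MonoidAlgebra R M →ₐ[R] B, pt cH ≫ e ≫ i = pt g ≫ e' ≫ i' := by
    intro B _ _ hB g
    obtain ⟨p⟩ := hover B hB
    obtain ⟨x, hx⟩ := h0 _ p (pt g ≫ e')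
    obtain ⟨cH, hcH⟩ := pt_surjective (x ≫ inv e)
    exact ⟨cH, by rw [reassoc_of% hcH, IsIso.inv_hom_id_assoc, hx, Category.assoc]⟩
  choose cH hcH using hall
  have hinj : ∀ (B : Type u) [CommRing B] [Algebra R B] (a b : MonoidAlgebra R M →ₐ[R] B),
      pt a ≫ e ≫ i = pt b ≫ e ≫ i → a = b := fun B _ _ a b h => pt_injective ((cancel_mono (e ≫ i)).mp h)
  -- the universal point modulo `J`
  have hB : ∀ (N : Type) [CommGroup N], ∀ r ∈ J, algebraMap R (MonoidAlgebra (R ⧸ J) N) r = 0 := fun N _ r hr => by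
    rw [IsScalarTower.algebraMap_apply R (R ⧸ J), Ideal.Quotient.algebraMap_eq, Ideal.Quotient.eq_zero_iff_mem.mpr hr, map_zero]
  let u₀ : MonoidAlgebra R M' →ₐ[R] (MonoidAlgebra (R ⧸ J) M') := MonoidAlgebra.lift R _ M' (MonoidAlgebra.of (R ⧸ J) M')
  let y : M →* (MonoidAlgebra (R ⧸ J) M') := (cH (MonoidAlgebra (R ⧸ J) M') (hB M') u₀ : MonoidAlgebra R M →* (MonoidAlgebra (R ⧸ J) M')).comp (MonoidAlgebra.of R M)
  have hnat : ∀ (B : Type u) [CommRing B] [Algebra R B] (hB' : ∀ r ∈ J, algebraMap R B r = 0) (k : (MonoidAlgebra (R ⧸ J) M') →ₐ[R] B),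
      cH B hB' (k.comp u₀) = k.comp (cH (MonoidAlgebra (R ⧸ J) M') (hB M') u₀) := fun B _ _ hB' k => hinj B _ _ (by
    rw [hcH, pt_comp, pt_comp, Category.assoc, Category.assoc, hcH])
  have hconv : ∀ (B : Type u) [CommRing B] [Algebra R B] (hB' : ∀ r ∈ J, algebraMap R B r = 0) (g g' : MonoidAlgebra R M' →ₐ[R] B),
      cH B hB' (conv g g') = conv (cH B hB' g) (cH B hB' g') := fun B _ _ hB' g g' => hinj B _ _ (by
    rw [hcH, pt_conv, pt_conv, ← Category.assoc, mul_comp', mul_comp', ← Category.assoc, mul_comp', mul_comp']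
    simp only [Category.assoc, hcH])
  have hyGL : ∀ m, IsGL (y m) := fun m => by
    have hd : ((dg (R ⧸ J) M').restrictScalars R).comp u₀ =
        conv (((il (R ⧸ J) M').restrictScalars R).comp u₀) (((ir (R ⧸ J) M').restrictScalars R).comp u₀) :=
      algHom_ext_single fun a => by
        simp [conv_single, u₀, dg, il, ir, MonoidAlgebra.mapDomainAlgHom_apply, MonoidAlgebra.mapDomain_single,
          MonoidAlgebra.single_mul_single]
    refine ⟨?_, ?_⟩
    · have := congrArg (cH (MonoidAlgebra (R ⧸ J) (M' × M')) (hB _)) hd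
      rw [hnat, hconv, hnat, hnat] at this
      have := congrArg (fun f : MonoidAlgebra R M →ₐ[R] (MonoidAlgebra (R ⧸ J) (M' × M')) => f (MonoidAlgebra.single m 1)) this
      simp only [conv_single] at this
      exact this
    · have hA : ∀ r ∈ J, algebraMap R (R ⧸ J) r = 0 := fun r hr => Ideal.Quotient.eq_zero_iff_mem.mpr hr
      have h1 : ((cu (R ⧸ J) M').restrictScalars R).comp u₀ = conv (((cu (R ⧸ J) M').restrictScalars R).comp u₀) (((cu (R ⧸ J) M').restrictScalars R).comp u₀) :=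
        algHom_ext_single fun a => by simp [conv_single, u₀, cu]
      have := congrArg (cH (R ⧸ J) hA) h1
      rw [hconv, hnat] at this
      have h2 := congrArg (fun f : MonoidAlgebra R M →ₐ[R] (R ⧸ J) => f (MonoidAlgebra.single m 1)) this
      simp only [conv_single] at h2
      have hu : IsUnit (cu (R ⧸ J) M' (y m)) := ((Group.isUnit m).map y).map _
      exact hu.mul_eq_left.mp h2.symm
  have hker : ∀ x ∈ RingHom.ker (Ideal.Quotient.mk J), IsNilpotent x := fun x hx => by
    obtain ⟨n, hn⟩ := hJ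
    rw [Ideal.mk_ker] at hx
    exact ⟨n, by simpa [hn] using Ideal.pow_mem_pow hx n⟩
  choose z hz hz' using fun m => exists_isGL_lift (Ideal.Quotient.mk J) Ideal.Quotient.mk_surjective hker (hyGL m)
  let red : MonoidAlgebra R M' →ₐ[R] (MonoidAlgebra (R ⧸ J) M') := u₀
  have hred : ∀ w : MonoidAlgebra R M', ∀ a, (red w).coeff a = Ideal.Quotient.mk J (w.coeff a) := by
    intro w a
    induction w using MonoidAlgebra.induction_linear with
    | zero => simp
    | add w w' hw hw' => simp only [map_add, MonoidAlgebra.coeff_add, Finsupp.add_apply, hw, hw']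
    | single b r =>
      simp [red, u₀, Algebra.smul_def, Finsupp.single_apply, apply_ite]
      rcases eq_or_ne b a with h | h <;> simp [h]
  have hredz : ∀ m, red (z m) = y m := fun m => MonoidAlgebra.ext (Finsupp.ext fun a => by rw [hred, hz'])
  let F : M →* MonoidAlgebra R M' :=
    { toFun := z
      map_one' := (hz 1).eq_of_map_eq _ hker isGL_one fun a => by rw [← hred, ← hred, hredz, map_one, map_one]
      map_mul' := fun m n => (hz _).eq_of_map_eq _ hker ((hz m).mul (hz n)) fun a => by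
        rw [← hred, ← hred, hredz, map_mul, map_mul, hredz, hredz] }
  let Φ : MonoidAlgebra R M →ₐ[R] MonoidAlgebra R M' := MonoidAlgebra.lift R _ M F
  haveI : IsMonHom (pt Φ) := isMonHom_pt_lift F hz
  have hΦ : u₀.comp Φ = cH (MonoidAlgebra (R ⧸ J) M') (hB M') u₀ := algHom_ext_single fun m => by
    rw [AlgHom.comp_apply]; simp only [Φ, MonoidAlgebra.lift_single, one_smul]; exact hredz m
  let φ : Hv' ⟶ Hv := inv e' ≫ pt Φ ≫ e
  haveI : IsMonHom (inv e') := inferInstanceAs (IsMonHom (asIso e').inv)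
  refine ⟨φ, ?_⟩
  haveI := isMonHom_mul_inv (φ ≫ i) i' (fun X g h => by
    have := hc X g (h ≫ φ); rwa [Category.assoc] at this)
  have key := hom_trivial_affine J hJ ⟨E'⟩ (i' * (φ ≫ i)⁻¹) fun B _ _ hB' k => by
    simp only [MonObj.comp_mul, GrpObj.comp_inv]
    rw [mul_inv_eq_one]
    obtain ⟨g, hg⟩ := pt_surjective (k ≫ inv e')
    have hk : k = pt g ≫ e' := by rw [hg, Category.assoc, IsIso.inv_hom_id, Category.comp_id]
    rw [hk]
    simp only [φ, Category.assoc, IsIso.hom_inv_id_assoc]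
    rw [← Category.assoc (pt g) (pt Φ), ← pt_comp]
    let kB : (MonoidAlgebra (R ⧸ J) M') →ₐ[R] B :=
      { MonoidAlgebra.liftNCRingHom (Ideal.Quotient.lift J (algebraMap R B) hB') ((g : MonoidAlgebra R M' →* B).comp (MonoidAlgebra.of R M')) (fun _ _ => Commute.all _ _) with
        commutes' := fun r => by
          show MonoidAlgebra.liftNCRingHom _ _ _ (MonoidAlgebra.single 1 (Ideal.Quotient.mk J r)) = _
          simp [← MonoidAlgebra.one_def] }
    have hg' : kB.comp u₀ = g := algHom_ext_single fun a => by simp [kB, u₀]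
    rw [show g.comp Φ = cH B hB' g from by rw [← hg', hnat, AlgHom.comp_assoc, hΦ]]
    exact (hcH B hB' g).symm
  exact (mul_inv_eq_one.mp key).symm

end Local

end Groth.Agent.DiagAction
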