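import Groth.Agent.DiagAction.Central
import Groth.Agent.FibrewiseCrit.QcDescent

/-!
Central subgroups of multiplicative type which agree modulo a nilpotent ideal are equal.
-/

universe u

open CategoryTheory Limits MonoidalCategory CartesianMonoidalCategory MonObj GrpObj AlgebraicGeometry
open CoactBr Groth.Agent.DiagGrp

set_option backward.isDefEq.respectTransparency false

noncomputable section

namespace Groth.Agent.DiagAction

theorem downP_comp_map {S S' : Scheme.{u}} (v : S' ⟶ S) {Y Y' : Over S} (a : Y ⟶ Y') {Z : Over S'}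
    (p : Z ⟶ Red.bc v Y) : downP v (p ≫ (Over.pullback v).map a) = downP v p ≫ a :=
  Adjunction.homEquiv_naturality_right_symm _ _ _

/-- the inclusion of the second subgroup factors through the central one -/
theorem exists_factor_central {R : Type u} [CommRing R] (J : Ideal R) (hJ : IsNilpotent J)
    (G H H' : Over (Spec (CommRingCat.of R))) [GrpObj G] [GrpObj H] [GrpObj H']
    (hH : TwC.Locally (Spec (CommRingCat.of R)) TwC.Topology.fpqc (fun S' f => ∃ (M : Type) (_ : AddCommGroup M), Nonempty (Grp.mk (Red.bc f H) ≅ Grp.mk (Red.DS S' M))))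
    (hH' : TwC.Locally (Spec (CommRingCat.of R)) TwC.Topology.fpqc (fun S' f => ∃ (M : Type) (_ : AddCommGroup M), Nonempty (Grp.mk (Red.bc f H') ≅ Grp.mk (Red.DS S' M))))
    (i : H ⟶ G) [IsMonHom i] [IsImmersion i.left] (i' : H' ⟶ G) [IsMonHom i'] [IsImmersion i'.left]
    (hc : ∀ (X : Over (Spec (CommRingCat.of R))) (g : X ⟶ G) (h : X ⟶ H), g * (h ≫ i) = (h ≫ i) * g)
    (h0 : ∃ ψ : Red.bc (Spec.map (CommRingCat.ofHom (Ideal.Quotient.mk J))) H ≅ Red.bc (Spec.map (CommRingCat.ofHom (Ideal.Quotient.mk J))) H',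
      ψ.hom ≫ (Over.pullback (Spec.map (CommRingCat.ofHom (Ideal.Quotient.mk J)))).map i' = (Over.pullback (Spec.map (CommRingCat.ofHom (Ideal.Quotient.mk J)))).map i) :
    ∃ φ : H' ⟶ H, φ ≫ i = i' := by
  obtain ⟨ψ, hψ⟩ := h0
  let q₀ : Spec (CommRingCat.of (R ⧸ J)) ⟶ Spec (CommRingCat.of R) := Spec.map (CommRingCat.ofHom (Ideal.Quotient.mk J))
  haveI : Mono i := Over.mono_of_mono_left i
  have h0pts : ∀ (Y : Over (Spec (CommRingCat.of R))) (_ : Y ⟶ Over.mk q₀) (h' : Y ⟶ H'), ∃ x : Y ⟶ H, x ≫ i = h' ≫ i' := by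
    intro Y p h'
    let l : Y.left ⟶ (Red.bc q₀ H').left := pullback.lift h'.left p.left ((Over.w h').trans (Over.w p).symm)
    have hψ' := congrArg CommaMorphism.left ((Iso.eq_inv_comp ψ).mpr hψ)
    simp only [Over.comp_left] at hψ'
    let x : Y.left ⟶ H.left := l ≫ ψ.inv.left ≫ pullback.fst H.hom q₀
    have hx : x ≫ i.left = h'.left ≫ i'.left := by
      have h1 : pullback.fst H.hom q₀ ≫ i.left = ((Over.pullback q₀).map i).left ≫ pullback.fst G.hom q₀ :=
        (pullback.lift_fst _ _ _).symm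
      have h2 : ((Over.pullback q₀).map i').left ≫ pullback.fst G.hom q₀ = pullback.fst H'.hom q₀ ≫ i'.left :=
        pullback.lift_fst _ _ _
      simp only [x, Category.assoc, h1]
      rw [reassoc_of% hψ'.symm, h2, ← Category.assoc, pullback.lift_fst]
    exact ⟨Over.homMk x (by rw [← Over.w i, reassoc_of% hx, Over.w i', Over.w h']), Over.OverMorphism.ext hx⟩
  let π := pullback.snd i.left i'.left
  haveI : Surjective π := by
    let e := pullback.fst H'.hom q₀
    haveI : Surjective q₀ := by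
      refine ⟨fun z => ?_⟩
      have : J ≤ (z : PrimeSpectrum R).asIdeal := by
        obtain ⟨n, hn⟩ := hJ
        exact fun r hr => (z : PrimeSpectrum R).isPrime.mem_of_pow_mem n
          ((show r ^ n = 0 by simpa [hn] using Ideal.pow_mem_pow hr n).symm ▸ zero_mem _)
      have hr : Set.range (PrimeSpectrum.comap (Ideal.Quotient.mk J)) = PrimeSpectrum.zeroLocus (J : Set R) := by
        rw [range_comap_of_surjective _ _ Ideal.Quotient.mk_surjective, Ideal.mk_ker]
      exact hr.ge this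
    obtain ⟨x, hx⟩ := h0pts ((Over.map q₀).obj (Red.bc q₀ H')) (Over.homMk (Red.bc q₀ H').hom rfl)
      ((Over.mapPullbackAdj q₀).counit.app H')
    let l := pullback.lift x.left e (congrArg CommaMorphism.left hx)
    have hl : l ≫ π = e := pullback.lift_snd _ _ _
    haveI : Surjective (l ≫ π) := by rw [hl]; exact MorphismProperty.pullback_fst _ _ ‹Surjective q₀›
    exact Surjective.of_comp l π
  haveI : IsClosedImmersion π := by
    refine IsClosedImmersion.of_isPreimmersion π ?_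
    rw [π.surjective.range_eq]; exact isClosed_univ
  suffices IsIso π by
    refine ⟨Over.homMk (inv π ≫ pullback.fst i.left i'.left) ?_, Over.OverMorphism.ext ?_⟩
    · rw [← Over.w i, Category.assoc, pullback.condition_assoc, Over.w i']
      exact IsIso.inv_hom_id_assoc π _
    · simp only [Over.comp_left, Over.homMk_left, Category.assoc, pullback.condition]
      exact IsIso.inv_hom_id_assoc π _
  obtain ⟨S₁, f₁, _, _, -, hloc₁⟩ := hH
  obtain ⟨S₂, f₂, _, _, -, hloc₂⟩ := hH'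
  let h := pullback.fst f₁ f₂ ≫ f₁
  let g := pullback.fst H'.hom h
  haveI : Surjective g := MorphismProperty.pullback_fst _ _ (inferInstanceAs (Surjective (pullback.fst f₁ f₂ ≫ f₁)))
  haveI : Flat g := MorphismProperty.pullback_fst _ _ (inferInstanceAs (Flat (pullback.fst f₁ f₂ ≫ f₁)))
  suffices IsIso (pullback.snd π g) from FibrewiseCrit.isIso_of_pullback_snd π g
  suffices ∀ t : ↥(pullback H'.hom h), ∃ (O : (pullback H'.hom h).Opens) (x : (O : Scheme.{u}) ⟶ H.left),
      t ∈ O ∧ x ≫ i.left = O.ι ≫ g ≫ i'.left by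
    choose O x hO hx using this
    let 𝒰 := (pullback H'.hom h).openCoverOfIsOpenCover O (eq_top_iff.mpr fun t _ =>
      TopologicalSpace.Opens.mem_iSup.mpr ⟨t, hO t⟩)
    let xx := 𝒰.glueMorphisms x fun a b => by
      rw [← cancel_mono i.left, Category.assoc, Category.assoc, hx, hx]
      exact pullback.condition_assoc (f := 𝒰.f a) (g := 𝒰.f b) (g ≫ i'.left)
    have hxx : xx ≫ i.left = g ≫ i'.left := 𝒰.hom_ext _ _ fun a => by
      rw [Scheme.Cover.ι_glueMorphisms_assoc]; exact hx a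
    let sec : pullback H'.hom h ⟶ pullback π g :=
      pullback.lift (pullback.lift xx g hxx) (𝟙 _) (by rw [pullback.lift_snd, Category.id_comp])
    have hsec : sec ≫ pullback.snd π g = 𝟙 _ := pullback.lift_snd _ _ _
    exact ⟨sec, by rw [← cancel_mono (pullback.snd π g), Category.assoc, hsec, Category.comp_id, Category.id_comp], hsec⟩
  intro t
  let s₃ := pullback.snd H'.hom h t
  obtain ⟨U₁, hU₁, M, _, hE₁⟩ := hloc₁ (pullback.fst f₁ f₂ s₃)
  obtain ⟨U₂, hU₂, M', _, hE₂⟩ := hloc₂ (pullback.snd f₁ f₂ s₃)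
  obtain ⟨_, ⟨V, hV, rfl⟩, hsV, hVU⟩ := (pullback f₁ f₂).isBasis_affineOpens.exists_subset_of_mem_open
    (show s₃ ∈ (pullback.fst f₁ f₂) ⁻¹' (U₁ : Set S₁) ∩ (pullback.snd f₁ f₂) ⁻¹' (U₂ : Set S₂) from ⟨hU₁, hU₂⟩)
    ((U₁.isOpen.preimage (pullback.fst f₁ f₂).continuous).inter (U₂.isOpen.preimage (pullback.snd f₁ f₂).continuous))
  replace hV : IsAffineOpen V := hV
  let A : Type u := Γ(pullback f₁ f₂, V)
  let v : Spec (CommRingCat.of A) ⟶ Spec (CommRingCat.of R) := hV.fromSpec ≫ h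
  obtain ⟨φ, hφ⟩ := Spec.map_surjective v
  let J' : Ideal A := J.map φ.hom
  have hJ' : IsNilpotent J' := by
    obtain ⟨n, hn⟩ := hJ
    exact ⟨n, by rw [← Ideal.map_pow, hn, Ideal.zero_eq_bot, Ideal.map_bot]; rfl⟩
  let j₁ : Spec (CommRingCat.of A) ⟶ U₁ := IsOpenImmersion.lift U₁.ι (hV.fromSpec ≫ pullback.fst f₁ f₂) (by
    rintro _ ⟨z, rfl⟩; exact (Scheme.Opens.range_ι U₁).ge (hVU (hV.range_fromSpec.le ⟨z, rfl⟩)).1)
  let j₂ : Spec (CommRingCat.of A) ⟶ U₂ := IsOpenImmersion.lift U₂.ι (hV.fromSpec ≫ pullback.snd f₁ f₂) (by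
    rintro _ ⟨z, rfl⟩; exact (Scheme.Opens.range_ι U₂).ge (hVU (hV.range_fromSpec.le ⟨z, rfl⟩)).2)
  have hj₁ : j₁ ≫ U₁.ι ≫ f₁ = v := by rw [← Category.assoc, IsOpenImmersion.lift_fac]; simp [v, h]
  have hj₂ : j₂ ≫ U₂.ι ≫ f₂ = v := by
    rw [← Category.assoc, IsOpenImmersion.lift_fac]; simp [v, h, pullback.condition]
  have e₁ := exists_chart_affine j₁ (U₁.ι ≫ f₁) v hj₁ H hE₁
  have e₂ := exists_chart_affine j₂ (U₂.ι ≫ f₂) v hj₂ H' hE₂
  let iv := (Over.pullback v).map i
  let iv' := (Over.pullback v).map i'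
  haveI : Mono iv := inferInstance
  have hcv : ∀ (X : Over (Spec (CommRingCat.of A))) (gg : X ⟶ Red.bc v G) (hh : X ⟶ Red.bc v H),
      gg * (hh ≫ iv) = (hh ≫ iv) * gg := by
    intro X gg hh
    apply (Over.mapPullbackAdj v).homEquiv _ _ |>.symm.injective
    show downP v _ = downP v _
    rw [downP_mul, downP_mul, downP_comp_map, hc]
  have h0v : ∀ (X : Over (Spec (CommRingCat.of A))) (_ : X ⟶ Over.mk (Spec.map (CommRingCat.ofHom (Ideal.Quotient.mk J'))))
      (h' : X ⟶ Red.bc v H'), ∃ x : X ⟶ Red.bc v H, x ≫ iv = h' ≫ iv' := by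
    intro X p h'
    let k : CommRingCat.of (R ⧸ J) ⟶ CommRingCat.of (A ⧸ J') :=
      CommRingCat.ofHom (Ideal.quotientMap J' φ.hom Ideal.le_comap_map)
    let p' : (Over.map v).obj X ⟶ Over.mk q₀ := Over.homMk (p.left ≫ Spec.map k) (by
      show (p.left ≫ Spec.map k) ≫ Spec.map _ = X.hom ≫ v
      rw [← Over.w p, ← hφ, Category.assoc, Category.assoc, ← Spec.map_comp]
      congr 1
      show _ = Spec.map _ ≫ Spec.map φ
      rw [← Spec.map_comp]
      congr 1)
    obtain ⟨x, hx⟩ := h0pts _ p' (downP v h')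
    refine ⟨upP v x, ?_⟩
    apply (Over.mapPullbackAdj v).homEquiv _ _ |>.symm.injective
    show downP v _ = downP v _
    rw [downP_comp_map, downP_comp_map, downP_upP, hx]
  obtain ⟨Φ, hΦ⟩ := exists_factor_local J' hJ' e₁ e₂ iv iv' hcv h0v
  let O := (pullback.snd H'.hom h) ⁻¹ᵁ V
  let l : (O : Scheme.{u}) ⟶ Spec (CommRingCat.of A) := IsOpenImmersion.lift hV.fromSpec (O.ι ≫ pullback.snd H'.hom h) (by
    rintro _ ⟨z, rfl⟩
    exact hV.range_fromSpec.ge z.2)
  let k : (Over.map v).obj (Over.mk l) ⟶ H' := Over.homMk (O.ι ≫ g) (by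
    show (O.ι ≫ g) ≫ H'.hom = l ≫ hV.fromSpec ≫ h
    rw [IsOpenImmersion.lift_fac_assoc, Category.assoc, Category.assoc, pullback.condition])
  refine ⟨O, (downP v (upP v k ≫ Φ)).left, hsV, ?_⟩
  have := downP_comp_map v i (upP v k ≫ Φ)
  rw [Category.assoc, hΦ, downP_comp_map, downP_upP] at this
  exact ((congrArg CommaMorphism.left this).symm.trans (Category.assoc _ _ _))

end Groth.Agent.DiagAction
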