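import Groth.Agent.DiagAction.Algebra

/-!
The coaction of a free action of a diagonalisable group on an affine scheme makes the graph a closed immersion.
-/

universe u

set_option backward.isDefEq.respectTransparency false

namespace Groth.Agent.DiagAction

variable {R C : Type u} [CommRing R] [CommRing C] [Algebra R C] {M : Type} [CommGroup M]
variable (A : PtAction R C M)

theorem coact_coassoc [DecidableEq M] (n k : M) (c : C) :
    (coact A ((coact A c).coeff n)).coeff k = if n = k then (coact A c).coeff n else 0 := by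
  let i : C →ₐ[R] (MonoidAlgebra C (M × M)) := IsScalarTower.toAlgHom R C (MonoidAlgebra C (M × M))
  let d : MonoidAlgebra C M →ₐ[C] (MonoidAlgebra C (M × M)) := MonoidAlgebra.mapDomainAlgHom C C (MonoidHom.id M |>.prod (MonoidHom.id M))
  let d₂ : MonoidAlgebra C M →ₐ[C] (MonoidAlgebra C (M × M)) := MonoidAlgebra.mapDomainAlgHom C C (MonoidHom.inr M M)
  let g₁ : MonoidAlgebra R M →ₐ[R] (MonoidAlgebra C (M × M)) := MonoidAlgebra.lift R _ M ((MonoidAlgebra.of C (M × M)).comp (MonoidHom.inl M M))
  let g₂ : MonoidAlgebra R M →ₐ[R] (MonoidAlgebra C (M × M)) := (d₂.restrictScalars R).comp univ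
  let y : C →ₐ[R] (MonoidAlgebra C (M × M)) := (d₂.restrictScalars R).comp (coact A)
  have hy : A.act (MonoidAlgebra C (M × M)) g₂ i = y := by
    simp only [y, coact, A.nat]
    congr 1
    exact (AlgHom.ext fun c => d₂.commutes c).symm
  have hk : A.act (MonoidAlgebra C (M × M)) ((d.restrictScalars R).comp univ) i = (d.restrictScalars R).comp (coact A) := by
    simp only [coact, A.nat]
    congr 1
    exact (AlgHom.ext fun c => d.commutes c).symm
  have hm := A.mul (MonoidAlgebra C (M × M)) g₁ g₂ ((d.restrictScalars R).comp univ) i (fun m => by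
    simp [g₁, g₂, univ_single, d, d₂, MonoidAlgebra.mapDomainAlgHom_apply, MonoidAlgebra.mapDomain_single, MonoidAlgebra.of_apply, MonoidAlgebra.single_mul_single, MonoidAlgebra.coeff_add])
  let hA : MonoidAlgebra C M →ₐ[R] (MonoidAlgebra C (M × M)) := MonoidAlgebra.liftNCAlgHom y
    ((MonoidAlgebra.of C (M × M)).comp (MonoidHom.inl M M)) fun _ _ => Commute.all _ _
  have hA1 : ∀ n a, hA (MonoidAlgebra.single n a) = y a * MonoidAlgebra.single ((n, 1) : M × M) 1 := fun n a => by
    simp [hA, MonoidAlgebra.mapDomainAlgHom_apply, MonoidAlgebra.mapDomain_single, MonoidAlgebra.of_apply, MonoidAlgebra.single_mul_single, MonoidAlgebra.coeff_add]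
  have hh : A.act (MonoidAlgebra C (M × M)) g₁ y = hA.comp (coact A) := by
    simp only [coact, A.nat]
    congr 1
    · refine algHom_ext_single (fun m => ?_)
      rw [AlgHom.comp_apply, univ_single, hA1, map_one, one_mul]
      simp [g₁, MonoidAlgebra.mapDomainAlgHom_apply, MonoidAlgebra.mapDomain_single, MonoidAlgebra.of_apply, MonoidAlgebra.single_mul_single, MonoidAlgebra.coeff_add]
    · refine AlgHom.ext fun c => ?_
      show y c = hA (algebraMap C (MonoidAlgebra C M) c)
      rw [show algebraMap C (MonoidAlgebra C M) c = MonoidAlgebra.single 1 c from rfl, hA1]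
      rw [show ((1 : M), (1 : M)) = (1 : M × M) from rfl, ← MonoidAlgebra.one_def, mul_one]
  rw [hk, hy, hh] at hm
  have e := congrArg (fun f : C →ₐ[R] (MonoidAlgebra C (M × M)) => (f c).coeff (n, k)) hm
  have e1 : ∀ z : MonoidAlgebra C M, (d z).coeff (n, k) = if n = k then z.coeff n else 0 := by
    intro z
    induction z using MonoidAlgebra.induction_linear with
    | zero => simp
    | add a b ha hb =>
      simp only [map_add, MonoidAlgebra.coeff_add, Finsupp.add_apply, ha, hb]; split_ifs <;> simp
    | single q a =>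
      by_cases h1 : q = n <;> by_cases h2 : n = k <;>
        simp [d, Finsupp.single_apply, MonoidAlgebra.mapDomainAlgHom_apply, MonoidAlgebra.mapDomain_single, h1, h2]
  have e2 : ∀ z : MonoidAlgebra C M, (hA z).coeff (n, k) = (coact A (z.coeff n)).coeff k := by
    intro z
    induction z using MonoidAlgebra.induction_linear with
    | zero => simp
    | add a b ha hb => simp only [map_add, MonoidAlgebra.coeff_add, Finsupp.add_apply, ha, hb]
    | single q a =>
      have : ∀ z : MonoidAlgebra C M, ((d₂ z) * MonoidAlgebra.single ((q, 1) : M × M) (1 : C)).coeff (n, k) =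
          if q = n then z.coeff k else 0 := by
        intro z
        induction z using MonoidAlgebra.induction_linear with
        | zero => simp
        | add a b ha hb =>
          rw [map_add, add_mul]; simp only [MonoidAlgebra.coeff_add, Finsupp.add_apply, ha, hb]; split_ifs <;> simp
        | single p b =>
          by_cases hn : q = n
          · subst hn; simp [d₂, Finsupp.single_apply, MonoidAlgebra.mapDomainAlgHom_apply, MonoidAlgebra.mapDomain_single, MonoidAlgebra.single_mul_single]
          · simp [d₂, Finsupp.single_apply, hn, MonoidAlgebra.mapDomainAlgHom_apply, MonoidAlgebra.mapDomain_single, MonoidAlgebra.single_mul_single]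
      rw [hA1]
      refine (this (coact A a)).trans ?_
      by_cases hn : q = n
      · subst hn; simp
      · simp [hn]
  simp only [AlgHom.comp_apply] at e
  rw [show (d.restrictScalars R) (coact A c) = d (coact A c) from rfl, e1, e2] at e
  exact e.symm

theorem coact_counit (c : C) : (MonoidAlgebra.lift C C M (1 : M →* C)) (coact A c) = c := by
  let ε : MonoidAlgebra C M →ₐ[R] C := (MonoidAlgebra.lift C C M (1 : M →* C)).restrictScalars R
  have h2 : ε.comp (coact A) = AlgHom.id R C := by
    simp only [coact, A.nat]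
    rw [A.one]
    · exact AlgHom.ext fun c => (MonoidAlgebra.lift C C M (1 : M →* C)).commutes c
    · intro m; simp [ε, univ_single]
  exact congr($h2 c)

/-- homogeneous of degree `m` -/
def IsHom (m : M) (c : C) : Prop := coact A c = MonoidAlgebra.single m c

theorem isHom_coeff (m : M) (c : C) : IsHom A m ((coact A c).coeff m) := by
  classical
  refine MonoidAlgebra.ext (Finsupp.ext fun k => ?_)
  rw [coact_coassoc, MonoidAlgebra.coeff_single, Finsupp.single_apply]

/-- graded ideals -/
def IsGraded (P : Ideal C) : Prop := ∀ c ∈ P, ∀ n, (coact A c).coeff n ∈ P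

theorem coeff_mul_hom {m : M} {a : C} (ha : IsHom A m a) (b : C) (n : M) :
    (coact A (b * a)).coeff n = (coact A b).coeff (n * m⁻¹) * a := by
  rw [map_mul, ha]
  exact MonoidAlgebra.coeff_mul_single_eq_coeff_mul _ fun q _ => eq_mul_inv_iff_mul_eq.symm

theorem coeff_hom_mul {m : M} {a : C} (ha : IsHom A m a) (b : C) (n : M) :
    (coact A (a * b)).coeff n = (coact A b).coeff (n * m⁻¹) * a := by
  rw [mul_comm, coeff_mul_hom A ha]

theorem isGraded_sup_span {P : Ideal C} (hP : IsGraded A P) {m : M} {a : C} (ha : IsHom A m a) :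
    IsGraded A (P ⊔ Ideal.span {a}) := by
  intro c hc n
  obtain ⟨p, hp, q, hq, rfl⟩ := Submodule.mem_sup.mp hc
  obtain ⟨b, rfl⟩ := Ideal.mem_span_singleton'.mp hq
  rw [map_add, MonoidAlgebra.coeff_add, Finsupp.add_apply, coeff_mul_hom A ha]
  exact add_mem (Submodule.mem_sup_left (hP p hp n))
    (Submodule.mem_sup_right (Ideal.mul_mem_left _ _ (Ideal.mem_span_singleton_self a)))

theorem isGraded_span_hom (m : M) : IsGraded A (Ideal.span {a | IsHom A m a}) := by
  intro c hc n
  suffices ∀ r, (coact A (r * c)).coeff n ∈ Ideal.span {a | IsHom A m a} by simpa using this 1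
  induction hc using Submodule.span_induction with
  | mem a ha => intro r; rw [coeff_mul_hom A ha]; exact Ideal.mul_mem_left _ _ (Ideal.subset_span ha)
  | zero => intro r; simp
  | add a b _ _ ha hb =>
    intro r
    rw [mul_add, map_add, MonoidAlgebra.coeff_add, Finsupp.add_apply]
    exact add_mem (ha r) (hb r)
  | smul t a _ ha => intro r; rw [smul_eq_mul, ← mul_assoc]; exact ha _

variable (hfree : ∀ (B : Type u) [CommRing B] [Algebra R B] (g : MonoidAlgebra R M →ₐ[R] B) (x : C →ₐ[R] B),
  A.act B g x = x → ∀ m, g (MonoidAlgebra.single m 1) = 1)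

include hfree in
theorem span_hom_eq_top (m : M) : Ideal.span {a | IsHom A m a} = ⊤ := by
  classical
  by_contra hI
  obtain ⟨P, hIP, hPmax⟩ := zorn_le_nonempty₀ {P : Ideal C | IsGraded A P ∧ (1 : C) ∉ P} (fun 𝒞 h𝒞 hchain Q hQ => by
    refine ⟨sSup 𝒞, ⟨fun c hc n => ?_, fun h1 => ?_⟩, fun z hz => le_sSup hz⟩
    · obtain ⟨P, hP, hcP⟩ := (Submodule.mem_sSup_of_directed ⟨Q, hQ⟩ hchain.directedOn).mp hc
      exact le_sSup hP ((h𝒞 hP).1 c hcP n)
    · obtain ⟨P, hP, hcP⟩ := (Submodule.mem_sSup_of_directed ⟨Q, hQ⟩ hchain.directedOn).mp h1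
      exact (h𝒞 hP).2 hcP) _ ⟨isGraded_span_hom A m, fun h => hI ((Ideal.eq_top_iff_one _).mpr h)⟩
  obtain ⟨hPg, hP1⟩ := hPmax.prop
  have hunit : ∀ {n : M} {a : C}, IsHom A n a → a ∉ P → ∃ b, IsHom A n⁻¹ b ∧ 1 - b * a ∈ P := by
    intro n a ha haP
    have h1 : (1 : C) ∈ P ⊔ Ideal.span {a} := by
      by_contra h
      have := hPmax.le_of_ge ⟨isGraded_sup_span A hPg ha, h⟩ le_sup_left
      exact haP (this (Submodule.mem_sup_right (Ideal.mem_span_singleton_self a)))
    obtain ⟨p, hp, q, hq, hpq⟩ := Submodule.mem_sup.mp h1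
    obtain ⟨b, rfl⟩ := Ideal.mem_span_singleton'.mp hq
    refine ⟨_, isHom_coeff A n⁻¹ b, ?_⟩
    have h2 := congrArg (fun z => (coact A z).coeff 1) hpq
    simp only [map_add, map_one, MonoidAlgebra.coeff_add, Finsupp.add_apply, coeff_mul_hom A ha, one_mul] at h2
    rw [MonoidAlgebra.one_def, MonoidAlgebra.coeff_single, Finsupp.single_eq_same] at h2
    rw [← h2, add_sub_cancel_right]
    exact hPg p hp 1
  let H : Subgroup M :=
    { carrier := {n | ∃ a, IsHom A n a ∧ a ∉ P}
      one_mem' := ⟨1, by simp [IsHom, MonoidAlgebra.one_def], hP1⟩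
      mul_mem' := by
        rintro n k ⟨a, ha, haP⟩ ⟨b, hb, hbP⟩
        refine ⟨a * b, by rw [IsHom, map_mul, ha, hb, MonoidAlgebra.single_mul_single], fun hab => hbP ?_⟩
        obtain ⟨a', -, ha'⟩ := hunit ha haP
        have : b = (1 - a' * a) * b + a' * (a * b) := by ring
        rw [this]; exact add_mem (Ideal.mul_mem_right _ _ ha') (Ideal.mul_mem_left _ _ hab)
      inv_mem' := by
        rintro n ⟨a, ha, haP⟩
        obtain ⟨a', ha'h, ha'⟩ := hunit ha haP
        refine ⟨a', ha'h, fun h => hP1 ?_⟩
        have : (1 : C) = (1 - a' * a) + a' * a := by ring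
        rw [this]; exact add_mem ha' (Ideal.mul_mem_right _ _ h) }
  have hmH : m ∉ H := fun ⟨a, ha, haP⟩ => haP (hIP (Ideal.subset_span ha))
  haveI : Nontrivial (C ⧸ P) := Ideal.Quotient.nontrivial_iff.mpr fun h => hP1 (h ▸ Submodule.mem_top)
  let x : C →ₐ[R] MonoidAlgebra (C ⧸ P) (M ⧸ H) := (IsScalarTower.toAlgHom R (C ⧸ P) _).comp (Ideal.Quotient.mkₐ R P)
  let g : MonoidAlgebra R M →ₐ[R] MonoidAlgebra (C ⧸ P) (M ⧸ H) :=
    MonoidAlgebra.lift R _ M ((MonoidAlgebra.of (C ⧸ P) (M ⧸ H)).comp (QuotientGroup.mk' H))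
  let h : MonoidAlgebra C M →ₐ[R] MonoidAlgebra (C ⧸ P) (M ⧸ H) := MonoidAlgebra.liftNCAlgHom x
    ((MonoidAlgebra.of (C ⧸ P) (M ⧸ H)).comp (QuotientGroup.mk' H)) fun _ _ => Commute.all _ _
  have hh1 : ∀ n a, h (MonoidAlgebra.single n a) = x a * MonoidAlgebra.single (QuotientGroup.mk n : M ⧸ H) 1 := fun n a => by
    simp [h]
  have hact : A.act _ g x = h.comp (coact A) := by
    simp only [coact, A.nat]
    congr 1
    · refine algHom_ext_single fun n => ?_
      rw [AlgHom.comp_apply, univ_single, hh1, map_one, one_mul]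
      simp [g]
    · refine AlgHom.ext fun c => ?_
      show x c = h (algebraMap C (MonoidAlgebra C M) c)
      rw [show algebraMap C (MonoidAlgebra C M) c = MonoidAlgebra.single 1 c from rfl, hh1]
      rw [QuotientGroup.mk_one, ← MonoidAlgebra.one_def, mul_one]
  have hfix : A.act _ g x = x := by
    rw [hact]
    refine AlgHom.ext fun c => ?_
    have hs : coact A c = ∑ n ∈ (coact A c).coeff.support, MonoidAlgebra.single n ((coact A c).coeff n) :=
      MonoidAlgebra.ext (by simp only [MonoidAlgebra.coeff_sum, MonoidAlgebra.coeff_single]; exact (Finsupp.sum_single _).symm)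
    have hc : ∑ n ∈ (coact A c).coeff.support, (coact A c).coeff n = c := by
      conv_rhs => rw [← coact_counit A c, MonoidAlgebra.lift_apply]
      simp [Finsupp.sum]
    rw [AlgHom.comp_apply, hs, map_sum]
    conv_rhs => rw [← hc, map_sum]
    refine Finset.sum_congr rfl fun n _ => ?_
    rw [hh1]
    by_cases hn : n ∈ H
    · rw [(QuotientGroup.eq_one_iff n).mpr hn, ← MonoidAlgebra.one_def, mul_one]
    · have : (coact A c).coeff n ∈ P := by
        by_contra hcn; exact hn ⟨_, isHom_coeff A n c, hcn⟩
      have hx0 : x ((coact A c).coeff n) = 0 := by simp [x, Ideal.Quotient.eq_zero_iff_mem.mpr this]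
      rw [hx0, zero_mul]
  have := hfree _ g x hfix m
  simp only [g, MonoidAlgebra.lift_single, one_smul] at this
  have h2 := congrArg (fun z => z.coeff (1 : M ⧸ H)) this
  have hne : (QuotientGroup.mk m : M ⧸ H) ≠ 1 := fun e => hmH ((QuotientGroup.eq_one_iff m).mp e)
  simp [MonoidAlgebra.one_def, Finsupp.single_apply, hne] at h2

/-- the comorphism of the graph -/
noncomputable def graphHom : TensorProduct R C C →ₐ[R] MonoidAlgebra C M :=
  Algebra.TensorProduct.lift (coact A) (inclC (R := R) (C := C) (M := M)) fun _ _ => Commute.all _ _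

include hfree in
theorem graphHom_surjective : Function.Surjective (graphHom A) := by
  rw [← AlgHom.range_eq_top]
  have hC : ∀ c, algebraMap C (MonoidAlgebra C M) c ∈ (graphHom A).range := fun c => ⟨1 ⊗ₜ c, by simp [graphHom, inclC]⟩
  have he : ∀ n : M, MonoidAlgebra.single n (1 : C) ∈ (graphHom A).range := by
    intro n
    have key : ∀ a ∈ Ideal.span {a | IsHom A n a}, MonoidAlgebra.single n a ∈ (graphHom A).range := by
      intro a ha
      induction ha using Submodule.span_induction with
      | mem a ha => exact ⟨a ⊗ₜ 1, by simp [graphHom]; exact ha⟩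
      | zero => simp
      | add a b _ _ ha hb => rw [MonoidAlgebra.single_add]; exact add_mem ha hb
      | smul r a _ ha =>
        have := mul_mem (hC r) ha
        rwa [show algebraMap C (MonoidAlgebra C M) r = MonoidAlgebra.single 1 r from rfl,
          MonoidAlgebra.single_mul_single, one_mul] at this
    exact key 1 ((span_hom_eq_top A hfree n).symm ▸ Submodule.mem_top)
  rw [eq_top_iff]
  rintro z -
  induction z using MonoidAlgebra.induction_linear with
  | zero => exact zero_mem _
  | add a b ha hb => exact add_mem ha hb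
  | single n a =>
    have := mul_mem (hC a) (he n)
    rwa [show algebraMap C (MonoidAlgebra C M) a = MonoidAlgebra.single 1 a from rfl,
      MonoidAlgebra.single_mul_single, one_mul, mul_one] at this

open scoped TensorProduct in
/-- `R[M] ⊗ C = C[M]` -/
theorem bijective_univ_incl : Function.Bijective (Algebra.TensorProduct.lift (univ (R := R) (C := C) (M := M))
    (inclC (R := R) (C := C) (M := M)) fun _ _ => Commute.all _ _) := by
  let back : MonoidAlgebra C M →ₐ[R] MonoidAlgebra R M ⊗[R] C := MonoidAlgebra.liftNCAlgHom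
    Algebra.TensorProduct.includeRight
    (((Algebra.TensorProduct.includeLeft : MonoidAlgebra R M →ₐ[R] MonoidAlgebra R M ⊗[R] C) :
      MonoidAlgebra R M →* MonoidAlgebra R M ⊗[R] C).comp (MonoidAlgebra.of R M)) fun _ _ => Commute.all _ _
  have hb : ∀ n a, back (MonoidAlgebra.single n a) = MonoidAlgebra.single n (1 : R) ⊗ₜ[R] a := fun n a => by
    simp [back]
  have key : back.comp (Algebra.TensorProduct.lift (univ (R := R) (C := C) (M := M))
      (inclC (R := R) (C := C) (M := M)) fun _ _ => Commute.all _ _) = AlgHom.id R _ := by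
    refine Algebra.TensorProduct.ext ?_ ?_
    · refine algHom_ext_single fun n => ?_
      simp only [AlgHom.comp_apply, Algebra.TensorProduct.includeLeft_apply, Algebra.TensorProduct.lift_tmul,
        map_one, mul_one, univ_single, hb, AlgHom.id_apply]
    · refine AlgHom.ext fun c => ?_
      simp only [AlgHom.comp_apply, AlgHom.restrictScalars_apply, Algebra.TensorProduct.includeRight_apply,
        Algebra.TensorProduct.lift_tmul, map_one, one_mul, AlgHom.id_apply]
      rw [show inclC (R := R) (C := C) (M := M) c = MonoidAlgebra.single 1 c from rfl, hb, ← MonoidAlgebra.one_def]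
  refine Function.bijective_iff_has_inverse.mpr ⟨back, fun z => AlgHom.congr_fun key z, fun z => ?_⟩
  induction z using MonoidAlgebra.induction_linear with
  | zero => simp
  | add a b ha hb' => simp only [map_add, ha, hb']
  | single n a =>
      rw [hb, Algebra.TensorProduct.lift_tmul, univ_single, show inclC (R := R) (C := C) (M := M) a = MonoidAlgebra.single 1 a from rfl,
        MonoidAlgebra.single_mul_single, mul_one, one_mul]

end Groth.Agent.DiagAction
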