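import Groth.Agent.DiagAction.Global
import Groth.Agent.DiagAction.Free
import Groth.Agent.FpqcDescent.Basic

/-!
The graph of a free action of a group of multiplicative type on an affine scheme is a closed immersion.
-/

universe u

open CategoryTheory Limits MonoidalCategory CartesianMonoidalCategory MonObj GrpObj AlgebraicGeometry
open CoactBr Groth.Agent.DiagGrp Opposite

set_option backward.isDefEq.respectTransparency false

noncomputable section

namespace Groth.Agent.DiagAction

local instance (R : Type u) [CommRing R] : (algSpec (CommRingCat.of R)).Braided := braidedAlgSpec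

theorem pt_eq_one_iff {R : Type u} [CommRing R] {M : Type} [CommGroup M] {B : Type u} [CommRing B] [Algebra R B]
    {g : MonoidAlgebra R M →ₐ[R] B} : pt g = (1 : sp R B ⟶ sp R (MonoidAlgebra R M)) →
      ∀ m, g (MonoidAlgebra.single m 1) = 1 := by
  intro h m
  rw [one_eq_pt] at h
  rw [pt_injective h]
  simp

theorem isIso_pt_of_bijective {R : Type u} [CommRing R] {B K : Type u} [CommRing B] [CommRing K] [Algebra R B]
    [Algebra R K] (φ : B →ₐ[R] K) (h : Function.Bijective φ) : IsIso (pt φ) := by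
  let e := AlgEquiv.ofBijective φ h
  refine ⟨pt e.symm.toAlgHom, ?_, ?_⟩
  · rw [← pt_comp, ← pt_id]
    exact congrArg pt (AlgHom.ext fun x => e.apply_symm_apply x)
  · rw [← pt_comp, ← pt_id]
    exact congrArg pt (AlgHom.ext fun x => e.symm_apply_apply x)

/-- The graph of a free action of a diagonalisable group on an affine scheme over an affine base. -/
theorem isClosedImmersion_graph_local {R : Type u} [CommRing R] {M : Type} [CommGroup M]
    {Hv Xv : Over (Spec (CommRingCat.of R))} [GrpObj Hv] [IsAffine Xv.left] (L : LocalAction Hv Xv)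
    (he : Nonempty (Grp.mk Hv ≅ Grp.mk (sp R (MonoidAlgebra R M))))
    (hfree : ∀ {Z : Over (Spec (CommRingCat.of R))} (g : Z ⟶ Hv) (x : Z ⟶ Xv), L.act g x = x → g = 1) :
    IsClosedImmersion (lift (L.act (fst Hv Xv) (snd Hv Xv)) (snd Hv Xv)).left := by
  obtain ⟨E⟩ := he
  let e : sp R (MonoidAlgebra R M) ⟶ Hv := E.inv.hom.hom
  haveI : IsMonHom e := E.inv.hom.isMonHom_hom
  haveI : IsIso e := ((Grp.forget _).mapIso E).isIso_inv
  let ψC : CommRingCat.of R ⟶ Γ(Xv.left, ⊤) := Spec.preimage (Xv.left.isoSpec.inv ≫ Xv.hom)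
  letI := ψC.hom.toAlgebra
  let wi : sp R Γ(Xv.left, ⊤) ≅ Xv := Over.isoMk Xv.left.isoSpec.symm (Spec.map_preimage _).symm
  let C : Type u := Γ(Xv.left, ⊤)
  let w : sp R Γ(Xv.left, ⊤) ⟶ Xv := wi.hom
  have hall : ∀ (B : Type u) [CommRing B] [Algebra R B] (g : MonoidAlgebra R M →ₐ[R] B) (x : Γ(Xv.left, ⊤) →ₐ[R] B),
      ∃ y : Γ(Xv.left, ⊤) →ₐ[R] B, pt y ≫ w = L.act (pt g ≫ e) (pt x ≫ w) := fun B _ _ g x => by
    obtain ⟨y, hy⟩ := pt_surjective (L.act (pt g ≫ e) (pt x ≫ w) ≫ wi.inv)
    exact ⟨y, by rw [hy, Category.assoc, wi.inv_hom_id, Category.comp_id]⟩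
  choose actA hactA using hall
  have hinj : ∀ (B : Type u) [CommRing B] [Algebra R B] (y z : Γ(Xv.left, ⊤) →ₐ[R] B), pt y ≫ w = pt z ≫ w → y = z :=
    fun B _ _ y z h => pt_injective ((cancel_mono w).mp h)
  have hone : ∀ (B : Type u) [CommRing B] [Algebra R B] (g : MonoidAlgebra R M →ₐ[R] B),
      (∀ m, g (MonoidAlgebra.single m 1) = 1) → pt g ≫ e = 1 := by
    intro B _ _ g hg
    have h2 : conv g g = g := algHom_ext_single fun m => by rw [conv_single, hg, _root_.mul_one]
    have := congrArg (fun p => p ≫ e) ((pt_conv g g).symm.trans (congrArg pt h2))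
    simp only [mul_comp'] at this
    exact left_eq_mul.mp this.symm
  let A : PtAction R Γ(Xv.left, ⊤) M :=
    { act := fun B _ _ g x => actA B g x
      nat := fun B B' _ _ _ _ h g x => hinj B' _ _ (by
        rw [hactA, pt_comp, Category.assoc, hactA, L.comp, pt_comp, pt_comp, Category.assoc, Category.assoc])
      one := fun B _ _ g x hg => hinj B _ _ (by rw [hactA, hone B g hg, L.one])
      mul := fun B _ _ g g' k x hk => hinj B _ _ (by
        have : k = conv g g' := algHom_ext_single fun m => by rw [conv_single, hk]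
        rw [hactA, hactA, hactA, this, pt_conv, mul_comp', L.mul]) }
  have hfreeA : ∀ (B : Type u) [CommRing B] [Algebra R B] (g : MonoidAlgebra R M →ₐ[R] B)
      (x : Γ(Xv.left, ⊤) →ₐ[R] B), A.act B g x = x → ∀ m, g (MonoidAlgebra.single m 1) = 1 := by
    intro B _ _ g x h
    have h1 : pt g ≫ e = 1 := hfree _ _ ((hactA B g x).symm.trans (by rw [show actA B g x = x from h]))
    refine pt_eq_one_iff ((cancel_mono e).mp ?_)
    rw [h1, one_comp']
  let μ₁ := Functor.LaxMonoidal.μ (algSpec (CommRingCat.of R)) (op (.of R (MonoidAlgebra R M))) (op (.of R Γ(Xv.left, ⊤)))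
  let μ₂ := Functor.LaxMonoidal.μ (algSpec (CommRingCat.of R)) (op (.of R Γ(Xv.left, ⊤))) (op (.of R Γ(Xv.left, ⊤)))
  let uC := univ (R := R) (C := Γ(Xv.left, ⊤)) (M := M)
  let iC := inclC (R := R) (C := Γ(Xv.left, ⊤)) (M := M)
  haveI : IsIso (lift (pt uC) (pt iC)) := by
    haveI : IsIso (lift (pt uC) (pt iC) ≫ μ₁) := by
      rw [lift_pt_pt]; exact isIso_pt_of_bijective _ bijective_univ_incl
    exact IsIso.of_isIso_comp_right _ μ₁
  let K : sp R (MonoidAlgebra Γ(Xv.left, ⊤) M) ⟶ Hv ⊗ Xv := lift (pt uC) (pt iC) ≫ (e ⊗ₘ w)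
  haveI : IsIso K := inferInstance
  have hK : K ≫ lift (L.act (fst Hv Xv) (snd Hv Xv)) (snd Hv Xv) = lift (pt (coact A)) (pt iC) ≫ (w ⊗ₘ w) := by
    simp only [K, lift_map, comp_lift, L.comp, lift_fst, lift_snd]
    rw [← hactA]
    rfl
  haveI : IsClosedImmersion (lift (pt (coact A)) (pt iC)).left := by
    haveI : IsClosedImmersion (lift (pt (coact A)) (pt iC) ≫ μ₂).left := by
      rw [lift_pt_pt, pt_left]
      exact IsClosedImmersion.spec_of_surjective _ (graphHom_surjective A hfreeA)
    have hh : IsClosedImmersion (lift (pt (coact A)) (pt iC) ≫ μ₂).left := this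
    rw [Over.comp_left] at hh
    haveI : IsIso μ₂.left := inferInstance
    exact (MorphismProperty.cancel_right_of_respectsIso @IsClosedImmersion _ μ₂.left).mp hh
  rw [(IsIso.eq_inv_comp K).mpr hK, Over.comp_left, Over.comp_left]
  infer_instance

variable {S : Scheme.{u}}

theorem isPullback_map_left {P Q : Over S} (u : P ⟶ Q) {T : Scheme.{u}} (t : T ⟶ S) :
    IsPullback (pullback.fst P.hom t) ((Over.pullback t).map u).left u.left (pullback.fst Q.hom t) := by
  refine IsPullback.of_bot ?_ (pullback.lift_fst _ _ _).symm (IsPullback.of_hasPullback Q.hom t)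
  rw [show ((Over.pullback t).map u).left ≫ pullback.snd Q.hom t = pullback.snd P.hom t from pullback.lift_snd _ _ _,
    Over.w u]
  exact IsPullback.of_hasPullback P.hom t

/-- fpqc-local closed immersion test for a morphism over `S` -/
theorem isClosedImmersion_of_local {P Q : Over S} (u : P ⟶ Q) {S' : Scheme.{u}} (f : S' ⟶ S) [Flat f] [Surjective f]
    (hcov : ∀ V : S.Opens, IsAffineOpen V → ∃ W : S'.Opens, IsCompact (W : Set S') ∧ f.base '' (W : Set S') = (V : Set S))
    (h : ∀ s' : S', ∃ (R : Type u) (_ : CommRing R) (c : Spec (CommRingCat.of R) ⟶ S'), IsOpenImmersion c ∧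
      s' ∈ Set.range c ∧ IsClosedImmersion ((Over.pullback (c ≫ f)).map u).left) :
    IsClosedImmersion u.left := by
  have hstable : ∀ {A B : Scheme.{u}} (j : A ⟶ B) (k : B ⟶ Q.left), IsClosedImmersion (pullback.snd u.left k) →
      IsClosedImmersion (pullback.snd u.left (j ≫ k)) := by
    intro A B j k _
    rw [← pullbackLeftPullbackSndIso_inv_snd_snd]
    infer_instance
  have key : ∀ {T U : Scheme.{u}} (t : T ⟶ S) (c : U ⟶ T),
      IsClosedImmersion (pullback.snd u.left (pullback.fst Q.hom (c ≫ t))) →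
      IsClosedImmersion (pullback.snd (pullback.snd u.left (pullback.fst Q.hom t)) (pullback.fst (pullback.snd Q.hom t) c)) := by
    intro T U t c hc
    rw [← pullbackLeftPullbackSndIso_hom_snd]
    haveI : IsClosedImmersion (pullback.snd u.left (pullback.fst (pullback.snd Q.hom t) c ≫ pullback.fst Q.hom t)) := by
      rw [← pullbackLeftPullbackSndIso_hom_fst]
      exact hstable _ _ hc
    infer_instance
  have hbase : ∀ s' : S', ∃ (U : Scheme.{u}) (c : U ⟶ S'), IsOpenImmersion c ∧ s' ∈ Set.range c ∧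
      IsClosedImmersion (pullback.snd u.left (pullback.fst Q.hom (c ≫ f))) := fun s' => by
    obtain ⟨R, _, c, hc, hs, hcl⟩ := h s'
    refine ⟨_, c, hc, hs, ?_⟩
    rw [← (isPullback_map_left u (c ≫ f)).isoPullback_inv_snd]
    infer_instance
  rw [IsZariskiLocalAtTarget.iff_of_openCover (P := @IsClosedImmersion) (S.affineCover.pullback₁ Q.hom)]
  intro i
  show IsClosedImmersion (pullback.snd u.left (pullback.fst Q.hom (S.affineCover.f i)))
  let ιV := S.affineCover.f i
  obtain ⟨W, hWc, hWV⟩ := hcov ιV.opensRange (isAffineOpen_opensRange ιV)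
  let g : (W : Scheme.{u}) ⟶ S.affineCover.X i := IsOpenImmersion.lift ιV (W.ι ≫ f) (by
    rw [Scheme.Hom.comp_base, TopCat.coe_comp, Set.range_comp, Scheme.Opens.range_ι, hWV]; rfl)
  have hg : g ≫ ιV = W.ι ≫ f := IsOpenImmersion.lift_fac _ _ _
  haveI : Flat g := by
    haveI : Flat (g ≫ ιV) := by rw [hg]; infer_instance
    exact MorphismProperty.of_postcomp (W := @Flat) (W' := @IsOpenImmersion) g ιV inferInstance ‹_›
  haveI : Surjective g := ⟨fun v => by
    obtain ⟨w, hw, hwv⟩ := hWV.ge ⟨v, rfl⟩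
    refine ⟨⟨w, hw⟩, ιV.isOpenEmbedding.injective ?_⟩
    rw [← Scheme.Hom.comp_apply, hg]
    exact hwv⟩
  haveI : CompactSpace (W : Scheme.{u}) := isCompact_iff_compactSpace.mp hWc
  haveI : QuasiCompact g := inferInstance
  haveI : IsClosedImmersion (pullback.snd u.left (pullback.fst Q.hom (g ≫ ιV))) := by
    rw [hg]
    have hW : ∀ w : (W : Scheme.{u}), ∃ (U : Scheme.{u}) (c : U ⟶ (W : Scheme.{u})), IsOpenImmersion c ∧
        w ∈ Set.range c ∧ IsClosedImmersion (pullback.snd u.left (pullback.fst Q.hom (c ≫ W.ι ≫ f))) := by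
      intro w
      obtain ⟨U, c, hc, hw, hcl⟩ := hbase (W.ι w)
      refine ⟨_, pullback.snd c W.ι, inferInstance, ?_, ?_⟩
      · obtain ⟨z, hz⟩ := hw
        obtain ⟨p, -, hp⟩ := Scheme.Pullback.exists_preimage_pullback (f := c) (g := W.ι) z w hz
        exact ⟨p, hp⟩
      · rw [← Category.assoc, ← pullback.condition, Category.assoc]
        have e : pullback.fst Q.hom (pullback.fst c W.ι ≫ c ≫ f) =
            pullback.lift (pullback.fst _ _) (pullback.snd _ _ ≫ pullback.fst c W.ι) (by rw [pullback.condition, Category.assoc]) ≫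
              pullback.fst Q.hom (c ≫ f) := (pullback.lift_fst _ _ _).symm
        rw [e]
        exact hstable _ _ hcl
    choose U c hc hw hcl using hW
    let 𝒲 : (W : Scheme.{u}).OpenCover := Scheme.Cover.mkOfCovers _ U c (fun w => ⟨w, hw w⟩) (fun w => hc w)
    rw [IsZariskiLocalAtTarget.iff_of_openCover (P := @IsClosedImmersion) (𝒲.pullback₁ (pullback.snd Q.hom (W.ι ≫ f)))]
    exact fun w => key (W.ι ≫ f) (c w) (hcl w)
  haveI := FpqcDescent.isClosedImmersion_descendsAlong.{u}
  exact MorphismProperty.of_isPullback_of_descendsAlong (P := @IsClosedImmersion)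
    (Q := @Surjective ⊓ @Flat ⊓ @QuasiCompact) (IsPullback.of_hasPullback
      (pullback.snd u.left (pullback.fst Q.hom ιV)) (pullback.fst (pullback.snd Q.hom ιV) g)).flip
    ⟨⟨inferInstance, inferInstance⟩, inferInstance⟩ (key ιV g inferInstance)

end Groth.Agent.DiagAction
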