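import Groth.Agent.DiagAction.Algebra
import Groth.Agent.DiagGrp.Hom
import Groth.Prelude.Def_AlgGrp

/-!
An action of a group which is diagonalisable over an affine scheme, trivial modulo a nilpotent ideal, is trivial
over that affine scheme.
-/

universe u

open CategoryTheory Limits MonoidalCategory CartesianMonoidalCategory MonObj GrpObj AlgebraicGeometry
open CoactBr Groth.Agent.DiagGrp

set_option backward.isDefEq.respectTransparency false

noncomputable section

namespace Groth.Agent.DiagAction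

variable {S : Scheme.{u}} {G X : Over S} [GrpObj G] (a : AlgGrp.Action G X)

/-- the action on points -/
def actT {T : Over S} (g : T ⟶ G) (x : T ⟶ X) : T ⟶ X := lift g x ≫ a.act

theorem comp_actT {T T' : Over S} (k : T' ⟶ T) (g : T ⟶ G) (x : T ⟶ X) :
    k ≫ actT a g x = actT a (k ≫ g) (k ≫ x) := by
  simp [actT, ← comp_lift_assoc]

theorem actT_one {T : Over S} (x : T ⟶ X) : actT a (1 : T ⟶ G) x = x := by
  rw [actT, Hom.one_def, ← lift_whiskerRight, Category.assoc, a.one_act, lift_leftUnitor_hom]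

theorem actT_mul {T : Over S} (g h : T ⟶ G) (x : T ⟶ X) : actT a (g * h) x = actT a g (actT a h x) := by
  rw [actT, actT, actT, Hom.mul_def, ← lift_whiskerRight, Category.assoc, a.mul_act,
    lift_lift_associator_hom_assoc, lift_whiskerLeft_assoc]

variable {S' : Scheme.{u}} (v : S' ⟶ S)

/-- a point of the base change, from a point -/
def upP {Y : Over S} {Z : Over S'} (q : (Over.map v).obj Z ⟶ Y) : Z ⟶ Red.bc v Y :=
  (Over.mapPullbackAdj v).homEquiv _ _ q

/-- a point, from a point of the base change -/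
def downP {Y : Over S} {Z : Over S'} (p : Z ⟶ Red.bc v Y) : (Over.map v).obj Z ⟶ Y :=
  ((Over.mapPullbackAdj v).homEquiv _ _).symm p

theorem downP_upP {Y : Over S} {Z : Over S'} (q : (Over.map v).obj Z ⟶ Y) : downP v (upP v q) = q :=
  Equiv.symm_apply_apply _ _

theorem upP_downP {Y : Over S} {Z : Over S'} (p : Z ⟶ Red.bc v Y) : upP v (downP v p) = p :=
  Equiv.apply_symm_apply _ _

theorem upP_mul {Y : Over S} [GrpObj Y] {Z : Over S'} (p q : (Over.map v).obj Z ⟶ Y) :
    upP v (p * q) = upP v p * upP v q := by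
  simp only [upP, Adjunction.homEquiv_unit]
  rw [Functor.map_mul, MonObj.comp_mul]

theorem downP_mul {Y : Over S} [GrpObj Y] {Z : Over S'} (p q : Z ⟶ Red.bc v Y) :
    downP v (p * q) = downP v p * downP v q := by
  conv_lhs => rw [← upP_downP v p, ← upP_downP v q, ← upP_mul, downP_upP]

theorem downP_one {Y : Over S} [GrpObj Y] {Z : Over S'} : downP v (1 : Z ⟶ Red.bc v Y) = 1 := by
  have h := downP_mul v (1 : Z ⟶ Red.bc v Y) 1
  rw [_root_.mul_one] at h
  exact left_eq_mul.mp h

theorem downP_comp {Y : Over S} {Z Z' : Over S'} (k : Z' ⟶ Z) (p : Z ⟶ Red.bc v Y) :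
    downP v (k ≫ p) = (Over.map v).map k ≫ downP v p :=
  Adjunction.homEquiv_naturality_left_symm _ _ _

/-- the action on points of the base change -/
def actV {Z : Over S'} (g : Z ⟶ Red.bc v G) (x : Z ⟶ Red.bc v X) : Z ⟶ Red.bc v X :=
  upP v (actT a (downP v g) (downP v x))

theorem comp_actV {Z Z' : Over S'} (k : Z' ⟶ Z) (g : Z ⟶ Red.bc v G) (x : Z ⟶ Red.bc v X) :
    k ≫ actV a v g x = actV a v (k ≫ g) (k ≫ x) := by
  simp only [actV, downP_comp, ← comp_actT]
  exact (Adjunction.homEquiv_naturality_left _ _ _).symm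

theorem actV_one {Z : Over S'} (x : Z ⟶ Red.bc v X) : actV a v (1 : Z ⟶ Red.bc v G) x = x := by
  rw [actV, downP_one, actT_one, upP_downP]

theorem actV_mul {Z : Over S'} (g h : Z ⟶ Red.bc v G) (x : Z ⟶ Red.bc v X) :
    actV a v (g * h) x = actV a v g (actV a v h x) := by
  rw [actV, actV, actV, downP_mul, actT_mul, downP_upP]

section Affine

variable {R : Type u} [CommRing R] (J : Ideal R) {M : Type} [CommGroup M]
variable {H Xv : Over (Spec (CommRingCat.of R))} [GrpObj H]

/-- an action on points of an arbitrary functor of points, in local coordinates -/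
structure LocalAction (H Xv : Over (Spec (CommRingCat.of R))) [GrpObj H] where
  /-- the action -/
  act : ∀ {Z : Over (Spec (CommRingCat.of R))}, (Z ⟶ H) → (Z ⟶ Xv) → (Z ⟶ Xv)
  comp : ∀ {Z Z' : Over (Spec (CommRingCat.of R))} (k : Z' ⟶ Z) (g : Z ⟶ H) (x : Z ⟶ Xv),
    k ≫ act g x = act (k ≫ g) (k ≫ x)
  one : ∀ {Z : Over (Spec (CommRingCat.of R))} (x : Z ⟶ Xv), act (1 : Z ⟶ H) x = x
  mul : ∀ {Z : Over (Spec (CommRingCat.of R))} (g h : Z ⟶ H) (x : Z ⟶ Xv), act (g * h) x = act g (act h x)

variable (L : LocalAction H Xv) (hJ : IsNilpotent J)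
  (hmod : ∀ (B : Type u) [CommRing B] [Algebra R B], (∀ r ∈ J, algebraMap R B r = 0) →
    ∀ (g : sp R B ⟶ H) (x : sp R B ⟶ Xv), L.act g x = x)
  (e : sp R (MonoidAlgebra R M) ⟶ H) [IsMonHom e] [IsIso e]

include hJ hmod in
theorem act_eq_affine {C : Type u} [CommRing C] [Algebra R C] (w : sp R C ⟶ Xv) [IsOpenImmersion w.left]
    (B : Type u) [CommRing B] [Algebra R B] (g : MonoidAlgebra R M →ₐ[R] B) (x : C →ₐ[R] B) :
    L.act (pt g ≫ e) (pt x ≫ w) = pt x ≫ w := by
  haveI : Mono w := Over.mono_of_mono_left w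
  have hfac : ∀ (B : Type u) [CommRing B] [Algebra R B] (g : MonoidAlgebra R M →ₐ[R] B) (x : C →ₐ[R] B),
      ∃ y : C →ₐ[R] B, pt y ≫ w = L.act (pt g ≫ e) (pt x ≫ w) := by
    intro B _ _ g x
    let q : B →ₐ[R] B ⧸ J.map (algebraMap R B) := Ideal.Quotient.mkₐ R _
    have hq : pt q ≫ L.act (pt g ≫ e) (pt x ≫ w) = pt q ≫ pt x ≫ w := by
      rw [L.comp]
      exact hmod _ (fun r hr => by
        rw [IsScalarTower.algebraMap_apply R B (B ⧸ J.map (algebraMap R B)), Ideal.Quotient.algebraMap_eq,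
          Ideal.Quotient.eq_zero_iff_mem]
        exact Ideal.mem_map_of_mem _ hr) _ _
    have hrange : Set.range (L.act (pt g ≫ e) (pt x ≫ w)).left ⊆ Set.range w.left := by
      rintro _ ⟨z, rfl⟩
      obtain ⟨z', rfl⟩ : z ∈ Set.range (pt q).left := by
        rw [pt_left]
        have : J.map (algebraMap R B) ≤ (z : PrimeSpectrum B).asIdeal := by
          obtain ⟨n, hn⟩ := hJ
          refine Ideal.map_le_iff_le_comap.mpr fun r hr => ?_
          refine (z : PrimeSpectrum B).isPrime.mem_of_pow_mem n ?_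
          rw [← map_pow]
          have : r ^ n ∈ J ^ n := Ideal.pow_mem_pow hr n
          rw [hn] at this
          rw [show r ^ n = 0 from this, map_zero]
          exact zero_mem _
        have hr : Set.range (PrimeSpectrum.comap q.toRingHom) = PrimeSpectrum.zeroLocus (J.map (algebraMap R B) : Set B) := by
          show Set.range (PrimeSpectrum.comap (Ideal.Quotient.mk (J.map (algebraMap R B)))) = _
          rw [range_comap_of_surjective _ _ Ideal.Quotient.mk_surjective, Ideal.mk_ker]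
        exact hr.ge this
      rw [← Scheme.Hom.comp_apply, ← Over.comp_left, hq]
      exact ⟨(pt x).left ((pt q).left z'), rfl⟩
    let l := IsOpenImmersion.lift w.left _ hrange
    have hl : l ≫ w.left = (L.act (pt g ≫ e) (pt x ≫ w)).left := IsOpenImmersion.lift_fac _ _ _
    let l' : sp R B ⟶ sp R C := Over.homMk l (by
      rw [← Over.w w, ← Category.assoc, hl]; exact Over.w _)
    obtain ⟨y, hy⟩ := pt_surjective l'
    exact ⟨y, by rw [hy]; exact Over.OverMorphism.ext hl⟩
  choose actA hactA using hfac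
  have hinj : ∀ (B : Type u) [CommRing B] [Algebra R B] (y z : C →ₐ[R] B), pt y ≫ w = pt z ≫ w → y = z :=
    fun B _ _ y z h => pt_injective ((cancel_mono w).mp h)
  have hone : ∀ (B : Type u) [CommRing B] [Algebra R B] (g : MonoidAlgebra R M →ₐ[R] B),
      (∀ m, g (MonoidAlgebra.single m 1) = 1) → pt g ≫ e = 1 := by
    intro B _ _ g hg
    have h2 : conv g g = g := algHom_ext_single fun m => by rw [conv_single, hg, _root_.mul_one]
    have := congrArg (fun p => p ≫ e) ((pt_conv g g).symm.trans (congrArg pt h2))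
    simp only [mul_comp'] at this
    exact left_eq_mul.mp this.symm
  let A : PtAction R C M :=
    { act := fun B _ _ g x => actA B g x
      nat := fun B B' _ _ _ _ h g x => hinj B' _ _ (by
        rw [hactA, pt_comp, Category.assoc, hactA, L.comp, pt_comp, pt_comp, Category.assoc, Category.assoc])
      one := fun B _ _ g x hg => hinj B _ _ (by rw [hactA, hone B g hg, L.one])
      mul := fun B _ _ g g' k x hk => hinj B _ _ (by
        have : k = conv g g' := algHom_ext_single fun m => by rw [conv_single, hk]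
        rw [hactA, hactA, hactA, this, pt_conv, mul_comp', L.mul]) }
  have := DiagAction.act_eq A J hJ (fun B _ _ g x h => hinj B _ _ ((hactA B g x).trans (hmod B h _ _))) B g x
  rw [← hactA B g x]
  exact congrArg (fun y => pt y ≫ w) this

include hJ hmod in
theorem act_eq_local (he : Nonempty (Grp.mk H ≅ Grp.mk (sp R (MonoidAlgebra R M))))
    {Z : Over (Spec (CommRingCat.of R))} (g : Z ⟶ H) (x : Z ⟶ Xv) : L.act g x = x := by
  obtain ⟨E⟩ := he
  let e : sp R (MonoidAlgebra R M) ⟶ H := E.inv.hom.hom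
  haveI : IsMonHom e := E.inv.hom.isMonHom_hom
  haveI : IsIso e := ((Grp.forget _).mapIso E).isIso_inv
  apply Over.OverMorphism.ext
  suffices ∀ z : Z.left, ∃ U : Z.left.Opens, z ∈ U ∧ U.ι ≫ (L.act g x).left = U.ι ≫ x.left by
    choose U hU hUe using this
    exact (Z.left.openCoverOfIsOpenCover U (eq_top_iff.mpr fun z _ =>
      TopologicalSpace.Opens.mem_iSup.mpr ⟨z, hU z⟩)).hom_ext _ _ hUe
  intro z
  obtain ⟨_, ⟨W, hW, rfl⟩, hzW, -⟩ := Xv.left.isBasis_affineOpens.exists_subset_of_mem_open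
    (Set.mem_univ (x.left z)) isOpen_univ
  obtain ⟨_, ⟨U, hU, rfl⟩, hzU, hUW⟩ := Z.left.isBasis_affineOpens.exists_subset_of_mem_open
    (show z ∈ x.left ⁻¹ᵁ W from hzW) (x.left ⁻¹ᵁ W).isOpen
  replace hW : IsAffineOpen W := hW
  replace hU : IsAffineOpen U := hU
  refine ⟨U, hzU, ?_⟩
  let ψC : CommRingCat.of R ⟶ Γ(Xv.left, W) := Spec.preimage (hW.fromSpec ≫ Xv.hom)
  let ψB : CommRingCat.of R ⟶ Γ(Z.left, U) := Spec.preimage (hU.fromSpec ≫ Z.hom)
  letI := ψC.hom.toAlgebra
  letI := ψB.hom.toAlgebra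
  let w : sp R Γ(Xv.left, W) ⟶ Xv := Over.homMk hW.fromSpec (Spec.map_preimage _).symm
  let zU : sp R Γ(Z.left, U) ⟶ Z := Over.homMk hU.fromSpec (Spec.map_preimage _).symm
  haveI : IsOpenImmersion w.left := inferInstanceAs (IsOpenImmersion hW.fromSpec)
  have hr : Set.range (zU ≫ x).left ⊆ Set.range w.left := by
    rintro _ ⟨p, rfl⟩
    refine hW.range_fromSpec.ge (hUW ?_)
    have : hU.fromSpec p ∈ (U : Set Z.left) := hU.range_fromSpec ▸ ⟨p, rfl⟩
    exact this
  let l : sp R Γ(Z.left, U) ⟶ sp R Γ(Xv.left, W) := Over.homMk (IsOpenImmersion.lift w.left _ hr) (by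
    rw [← Over.w w, IsOpenImmersion.lift_fac_assoc]; exact Over.w _)
  have hl : l ≫ w = zU ≫ x := Over.OverMorphism.ext (IsOpenImmersion.lift_fac _ _ _)
  obtain ⟨φ, hφ⟩ := pt_surjective l
  obtain ⟨gU, hgU⟩ := pt_surjective (zU ≫ g ≫ inv e)
  have key := act_eq_affine J L hJ hmod e w _ gU φ
  rw [hφ, hl, hgU, Category.assoc, Category.assoc, IsIso.inv_hom_id, Category.comp_id, ← L.comp] at key
  have key' := congrArg CommaMorphism.left key
  simp only [Over.comp_left] at key'
  have h2 : hU.isoSpec.hom ≫ hU.fromSpec = Scheme.Opens.ι U := hU.isoSpec_hom_fromSpec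
  rw [← h2, Category.assoc, Category.assoc]
  exact congrArg (fun t => hU.isoSpec.hom ≫ t) key' 

end Affine

end Groth.Agent.DiagAction
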